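import Cfsg.Agent.CharDeep.Deg.Basic
import Cfsg.Agent.Lib.BlocksCore.CyclicRank
import Cfsg.Agent.Lib.BlocksCore.CyclicCount
import Mathlib.Tactic.LinearCombination

/-!
# Principal blocks with all degrees below `p`, Sylow `p`-subgroup of order `p`
-/

namespace Cfsg.Agent.CharDeep.Small

open SmallGroups.SelfCent BlocksCore

variable {G : Type*} [Group G] [Fintype G] {p : ℕ} [Fact p.Prime] {M : Ideal Cfsg.AlgInt}

theorem deg_eq (χ : Cfsg.IrrCharacter G) :
    Setup.deg χ = Cfsg.charDegree (χ : G → ℂ) :=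
  (Deg.degree_of_eq (Setup.deg_spec χ).2.2).symm

/-- The only number `0 < d < p` in a residue class. -/
theorem eq_of_modEq {d : ℕ} {c : ℤ} (h : (d : ℤ) ≡ c [ZMOD p]) (hd : d < p) (hc0 : 0 ≤ c)
    (hc : c < p) : (d : ℤ) = c := by
  obtain ⟨k, hk⟩ := Int.modEq_iff_dvd.mp h
  have hd' : (d : ℤ) < p := by exact_mod_cast hd
  rcases lt_trichotomy k 0 with hk0 | rfl | hk0
  · nlinarith
  · linarith
  · nlinarith

theorem sum_three {α : Type*} (T : Finset α) (S : α → ℤ) (a b c : ℤ) (hab : a ≠ b) (hac : a ≠ c)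
    (hbc : b ≠ c) (h : ∀ x ∈ T, S x = a ∨ S x = b ∨ S x = c) (F : ℤ → ℤ) :
    ∑ x ∈ T, F (S x) = ((T.filter fun x => S x = a).card : ℤ) * F a +
      ((T.filter fun x => S x = b).card : ℤ) * F b +
        ((T.filter fun x => S x = c).card : ℤ) * F c := by
  classical
  simp only [Finset.card_filter, Nat.cast_sum, Finset.sum_mul, ← Finset.sum_add_distrib]
  refine Finset.sum_congr rfl fun x hx => ?_
  rcases h x hx with h | h | h <;>
    simp [h, hab, hab.symm, hac, hac.symm, hbc, hbc.symm]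

theorem principal_degrees (s : Setup G p) (hM : Cfsg.IsPModular p M)
    (hidx : ¬ p ∣ (Subgroup.zpowers s.z).index) (hp2 : p ≠ 2)
    (hlin : ∀ χ : Cfsg.IrrCharacter G, Cfsg.charDegree (χ : G → ℂ) = 1 → ∀ g, (χ : G → ℂ) g = 1)
    (hfaith : ∀ χ : Cfsg.IrrCharacter G, (∃ g, (χ : G → ℂ) g ≠ 1) →
      ∀ g, (χ : G → ℂ) g = (χ : G → ℂ) 1 → g = 1)
    [DecidablePred (· ∈ Cfsg.principalBlock M G)]
    (hB : ∀ χ ∈ Cfsg.principalBlock M G, Cfsg.charDegree (χ : G → ℂ) < p) :
    (∃ χ ∈ Cfsg.principalBlock M G, Cfsg.charDegree (χ : G → ℂ) + 1 = p) ∧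
    (∃ χ ∈ Cfsg.principalBlock M G, Cfsg.charDegree (χ : G → ℂ) + 2 = p ∧ ∃ g, (χ : G → ℂ) g ≠ 1) ∧
    (∀ χ : Cfsg.IrrCharacter G, χ ∉ Cfsg.principalBlock M G →
      p ∣ Cfsg.charDegree (χ : G → ℂ)) ∧
    (p : ℤ) - 2 ∣ (∑ χ ∈ Finset.univ.filter (· ∈ Cfsg.principalBlock M G),
      (Cfsg.charDegree (χ : G → ℂ) : ℤ) ^ 2) - 2 := by
  classical
  have := BlocksCore.isPrime hM
  have hp : p.Prime := Fact.out
  haveI := Fintype.ofFinite s.Orb
  letI : Field (BlocksDefect.Res M) := Ideal.Quotient.field _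
  haveI : CharP (BlocksDefect.Res M) p := BlocksDefect.charP_res hM
  haveI : CharP (AlgebraicClosure (BlocksDefect.Res M)) p :=
    charP_of_injective_ringHom
      (algebraMap (BlocksDefect.Res M) (AlgebraicClosure (BlocksDefect.Res M))).injective p
  have hge := BlocksCore.CyclicRank.card_ge hM s hidx (AlgebraicClosure (BlocksDefect.Res M))
    (algebraMap _ _)
  set B : Finset (Cfsg.IrrCharacter G) :=
    Finset.univ.filter (· ∈ Cfsg.principalBlock M G) with hBdef
  have hBcard : Nat.card (Cfsg.principalBlock M G) = B.card := by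
    rw [Nat.card_eq_fintype_card, Fintype.card_subtype]
  obtain ⟨hcard, hvec⟩ := CyclicCount.count B (fun χ => (Setup.deg χ : ℤ))
    (fun χ => by exact_mod_cast (Setup.deg_spec χ).1)
    (fun o χ => s.vecO χ o) (Nat.card s.auto) s.gram_orb s.sum_deg_mul_vecO
    (fun o χ hχ => CyclicBlock.vec_of_notMem s hM (by simpa [hBdef] using hχ) _)
    (fun χ hχ => CyclicBlock.exists_vecO_ne_zero s hM hidx (by simpa [hBdef] using hχ))
    (by rwa [← hBcard, ← Nat.card_eq_fintype_card])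
  set S : Cfsg.IrrCharacter G → ℤ := fun χ => ∑ o, s.vecO χ o with hS
  set e := Nat.card s.auto with he
  set r := Fintype.card s.Orb with hr
  have her : r * e = p - 1 := by
    rw [hr, ← Nat.card_eq_fintype_card]; exact s.card_orb_mul
  have he0 : 0 < e := Nat.card_pos
  have hr0 : 0 < r := Fintype.card_pos
  have herZ : (r : ℤ) * e = (p : ℤ) - 1 := by
    rw [← Nat.cast_mul, her, Nat.cast_sub hp.one_le, Nat.cast_one]
  have hep : (e : ℤ) < p := by
    have : (1 : ℤ) ≤ r := by exact_mod_cast hr0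
    nlinarith
  set one : Cfsg.IrrCharacter G := Setup.triv with hone
  have honeM : one ∈ Cfsg.principalBlock M G :=
    (show BlocksDefect.oneIrr G = one from Subtype.ext rfl) ▸ BlocksDefect.oneIrr_mem
  have hone1 : ∀ g, (one : G → ℂ) g = 1 := fun g => rfl
  have honeB : one ∈ B := by simp [hBdef, honeM]
  set T := B.erase one with hT
  have hTM : ∀ χ ∈ T, χ ∈ Cfsg.principalBlock M G := fun χ hχ => by
    have := (Finset.mem_erase.mp hχ).2
    simpa [hBdef] using this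
  have hTne : ∀ χ ∈ T, ∃ g, (χ : G → ℂ) g ≠ 1 := fun χ hχ => by
    by_contra h
    push Not at h
    exact (Finset.mem_erase.mp hχ).1 (Subtype.ext (funext fun g => by rw [h g, hone1]))
  have hT2 : ∀ χ ∈ T, Cfsg.charDegree (χ : G → ℂ) ≠ 1 := fun χ hχ h => by
    obtain ⟨g, hg⟩ := hTne χ hχ
    exact hg (hlin χ h g)
  have hcong : ∀ χ ∈ T, (Cfsg.charDegree (χ : G → ℂ) : ℤ) ≡ (e : ℤ) * S χ [ZMOD p] :=
    fun χ hχ => CyclicBlock.charDegree_modEq s hM (hTM χ hχ)
  -- the centralizer of `z` is `⟨z⟩`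
  have hK : s.K = ⊥ := by
    have hne : T.Nonempty := by
      rw [← Finset.card_pos, hT, Finset.card_erase_of_mem honeB, hcard]
      omega
    obtain ⟨χ, hχ⟩ := hne
    obtain ⟨n, hn, hnle, hnmod⟩ := s.exists_fix χ
    rw [deg_eq] at hnle
    have hlt := hB χ (hTM χ hχ)
    have hnd : (n : ℤ) = Cfsg.charDegree (χ : G → ℂ) :=
      eq_of_modEq (hnmod.trans (hcong χ hχ).symm) (lt_of_le_of_lt hnle hlt) (Int.natCast_nonneg _)
        (by exact_mod_cast hlt)
    rw [Nat.cast_inj] at hnd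
    subst hnd
    set d := Cfsg.charDegree (χ : G → ℂ)
    rw [Setup.phi, inv_mul_eq_iff_eq_mul₀ s.card_kset_ne_zero] at hn
    have hnorm : ∀ w, ‖(χ : G → ℂ) w‖ ≤ (d : ℝ) := fun w => by
      have := CharCore.IsCharacter.norm_apply_le (CharCore.irr_isCharacter χ) w
      rwa [Deg.apply_one χ, Complex.norm_natCast] at this
    have hre : ∀ w ∈ s.kset, ((χ : G → ℂ) (s.zp 0 * w)).re = d := by
      refine (Finset.sum_eq_sum_iff_of_le fun w _ =>
        (Complex.re_le_norm _).trans (hnorm _)).mp ?_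
      rw [← Complex.re_sum, hn, Finset.sum_const, nsmul_eq_mul]
      simp
    rw [eq_bot_iff]
    intro w hw
    refine Subgroup.mem_bot.mpr (hfaith χ (hTne χ hχ) w ?_)
    have h1 := hre w (s.mem_kset.mpr hw)
    rw [s.zp_zero, one_mul] at h1
    have h2 : Complex.normSq ((χ : G → ℂ) w) ≤ (d : ℝ) ^ 2 := by
      rw [Complex.normSq_eq_norm_sq]
      exact pow_le_pow_left₀ (norm_nonneg _) (hnorm w) 2
    rw [Complex.normSq_apply, h1] at h2
    rw [Deg.apply_one χ]
    exact Complex.ext (by simpa using h1)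
      (by simpa using mul_self_eq_zero.mp (le_antisymm (by nlinarith) (mul_self_nonneg _)))
  have hout : ∀ χ : Cfsg.IrrCharacter G, χ ∉ Cfsg.principalBlock M G →
      p ∣ Cfsg.charDegree (χ : G → ℂ) := fun χ hχ => by
    obtain ⟨n, hn, -, hnmod⟩ := s.exists_fix χ
    rw [s.phi_zero_of_bot hK, Deg.apply_one χ, Nat.cast_inj] at hn
    subst hn
    rw [Finset.sum_eq_zero fun o _ => show s.vecO χ o = 0 from
      CyclicBlock.vec_of_notMem s hM hχ _, mul_zero, Int.modEq_zero_iff_dvd] at hnmod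
    exact_mod_cast hnmod
  have hSout : ∀ χ ∉ B, S χ = 0 := fun χ hχ =>
    Finset.sum_eq_zero fun o _ => CyclicBlock.vec_of_notMem s hM (by simpa [hBdef] using hχ) _
  have hSone : S one = -(r : ℤ) := by
    simp only [hS, hone, s.vecO_triv, Finset.sum_const, Finset.card_univ, nsmul_eq_mul, hr]
    ring
  have horth : -(r : ℤ) + ∑ χ ∈ T, (Cfsg.charDegree (χ : G → ℂ) : ℤ) * S χ = 0 := by
    have h : ∑ χ : Cfsg.IrrCharacter G, (Setup.deg χ : ℤ) * S χ = 0 := by
      simp only [hS, Finset.mul_sum]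
      rw [Finset.sum_comm]
      exact Finset.sum_eq_zero fun o _ => s.sum_deg_mul_vecO o
    rw [← Finset.sum_subset (Finset.subset_univ B) (fun χ _ hχ => by rw [hSout χ hχ, mul_zero]),
      ← Finset.add_sum_erase _ _ honeB, hSone, hone, Setup.deg_triv] at h
    simpa [deg_eq] using h
  have hsq : (r : ℤ) ^ 2 + ∑ χ ∈ T, S χ ^ 2 = r + e * (r : ℤ) ^ 2 := by
    have h : ∑ χ : Cfsg.IrrCharacter G, S χ ^ 2 = r + e * (r : ℤ) ^ 2 := by
      simp only [hS, sq, Finset.sum_mul_sum]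
      rw [Finset.sum_comm, Finset.sum_congr rfl fun i _ => Finset.sum_comm]
      simp only [s.gram_orb, Finset.sum_add_distrib, Finset.sum_ite_eq, Finset.mem_univ, if_true,
        Finset.sum_const, Finset.card_univ, nsmul_eq_mul, hr, mul_one, he]
      ring
    rw [← Finset.sum_subset (Finset.subset_univ B) (fun χ _ hχ => by rw [hSout χ hχ]; rfl),
      ← Finset.add_sum_erase _ _ honeB, hSone] at h
    linear_combination h
  have hTcard : (T.card : ℤ) = e + r - 1 := by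
    rw [hT, Finset.card_erase_of_mem honeB, hcard, Nat.cast_sub (by omega)]
    push_cast
    ring
  have hcase : ∀ χ ∈ T, (S χ = r ∧ (Cfsg.charDegree (χ : G → ℂ) : ℤ) = p - 1) ∨
      (S χ = 1 ∧ (Cfsg.charDegree (χ : G → ℂ) : ℤ) = e) ∨
      (S χ = -1 ∧ (Cfsg.charDegree (χ : G → ℂ) : ℤ) = p - e) := by
    intro χ hχ
    have hlt := hB χ (hTM χ hχ)
    have hc := hcong χ hχ
    have he1 : (1 : ℤ) ≤ e := by exact_mod_cast he0
    obtain ⟨t, ht, hsum⟩ := hvec χ (Finset.mem_of_mem_erase hχ)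
    change S χ = (r : ℤ) * t ∨ S χ = t at hsum
    rcases ht with rfl | rfl <;> rcases hsum with h | h <;> rw [h] at hc
    · refine Or.inl ⟨by rw [h, mul_one], eq_of_modEq (hc.trans ?_) hlt (by linarith) (by linarith)⟩
      exact Int.modEq_iff_dvd.mpr ⟨0, by linear_combination -herZ⟩
    · exact Or.inr (Or.inl ⟨h, eq_of_modEq (by simpa using hc) hlt (by linarith) hep⟩)
    · refine absurd ?_ (hT2 χ hχ)
      have h1 := eq_of_modEq (c := 1) (hc.trans
        (Int.modEq_iff_dvd.mpr ⟨1, by linear_combination herZ⟩)) hlt zero_le_one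
        (by exact_mod_cast hp.one_lt)
      exact_mod_cast h1
    · refine Or.inr (Or.inr ⟨h, eq_of_modEq (hc.trans ?_) hlt (by linarith) (by linarith)⟩)
      exact Int.modEq_iff_dvd.mpr ⟨1, by ring⟩
  -- the orbit number `r` is not one
  have hr1 : r ≠ 1 := by
    intro h1
    have hep1 : (e : ℤ) = p - 1 := by rw [← herZ, h1]; simp
    have : ∀ χ ∈ T, (Cfsg.charDegree (χ : G → ℂ) : ℤ) * S χ = p - 1 := by
      intro χ hχ
      rcases hcase χ hχ with ⟨hs, hd⟩ | ⟨hs, hd⟩ | ⟨hs, hd⟩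
      · rw [hs, hd, h1]; simp
      · rw [hs, hd, hep1, mul_one]
      · exact absurd (by exact_mod_cast (hd.trans (by rw [hep1]; ring) : _ = (1 : ℤ))) (hT2 χ hχ)
    rw [Finset.sum_congr rfl this, Finset.sum_const, nsmul_eq_mul, hTcard, h1, hep1] at horth
    have h2 : (p : ℤ) * ((p : ℤ) - 2) = 0 := by push_cast at horth; linear_combination horth
    rcases mul_eq_zero.mp h2 with h3 | h3
    · exact hp.ne_zero (by exact_mod_cast h3)
    · exact hp2 (by exact_mod_cast sub_eq_zero.mp h3)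
  have hr2 : (2 : ℤ) ≤ r := by exact_mod_cast (show 2 ≤ r by omega)
  have h3 : ∀ χ ∈ T, S χ = (r : ℤ) ∨ S χ = 1 ∨ S χ = -1 := fun χ hχ => by
    rcases hcase χ hχ with h | h | h
    · exact Or.inl h.1
    · exact Or.inr (Or.inl h.1)
    · exact Or.inr (Or.inr h.1)
  set D : ℤ → ℤ := fun t => if t = r then (p : ℤ) - 1 else if t = 1 then e else p - e with hD
  have hdeg : ∀ χ ∈ T, (Cfsg.charDegree (χ : G → ℂ) : ℤ) = D (S χ) := by
    intro χ hχ
    rcases hcase χ hχ with ⟨hs, hd⟩ | ⟨hs, hd⟩ | ⟨hs, hd⟩ <;>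
      · rw [hd, hs, hD]
        simp [show (1 : ℤ) ≠ r by linarith, show (-1 : ℤ) ≠ r by linarith]
  have hD1 : D r = (p : ℤ) - 1 ∧ D 1 = e ∧ D (-1) = (p : ℤ) - e := by
    simp [hD, show (1 : ℤ) ≠ r by linarith, show (-1 : ℤ) ≠ r by linarith]
  have hs3 := sum_three T S r 1 (-1) (by linarith) (by linarith) (by norm_num) h3
  have e1 : (T.card : ℤ) = ((T.filter fun χ => S χ = r).card : ℤ) +
      ((T.filter fun χ => S χ = 1).card : ℤ) + ((T.filter fun χ => S χ = -1).card : ℤ) := by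
    simpa using hs3 (fun _ => 1)
  have e2 := hs3 (fun t => t ^ 2)
  have e3 := hs3 (fun t => D t * t)
  have e4 := hs3 (fun t => D t ^ 2)
  rw [Finset.sum_congr rfl (g := fun χ => D (S χ) * S χ)
    (fun χ hχ => by rw [hdeg χ hχ])] at horth
  simp only [hD1.1, hD1.2.1, hD1.2.2] at e3 e4
  rw [e3] at horth
  rw [e2] at hsq
  rw [e1] at hTcard
  set a := ((T.filter fun χ => S χ = r).card : ℤ) with ha
  set w := ((T.filter fun χ => S χ = 1).card : ℤ) with hw
  set u := ((T.filter fun χ => S χ = -1).card : ℤ) with hu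
  have hae : a = e - 1 := by
    refine mul_right_cancel₀ (show (r : ℤ) ^ 2 - 1 ≠ 0 by nlinarith) ?_
    linear_combination hsq - hTcard
  have hup : u = r * ((e : ℤ) - 1) := by
    refine mul_right_cancel₀ (show (p : ℤ) ≠ 0 by exact_mod_cast hp.ne_zero) ?_
    rw [hae] at horth hTcard
    linear_combination -horth + (e : ℤ) * hTcard
  have he2 : (e : ℤ) = 2 := by
    have h4 : w + u = r := by linear_combination hTcard - hae
    have hw0 : 0 ≤ w := Int.natCast_nonneg _
    by_contra hne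
    rcases (show (e : ℤ) = 1 ∨ 3 ≤ (e : ℤ) by omega) with h5 | h5
    · have hw1 : w = r := by rw [h5] at hup; linear_combination h4 - hup
      obtain ⟨χ, hχ⟩ : (T.filter fun χ => S χ = 1).Nonempty := by
        rw [← Finset.card_pos]
        have : (0 : ℤ) < ((T.filter fun χ => S χ = 1).card : ℤ) := by linarith
        exact_mod_cast this
      obtain ⟨hχT, hχS⟩ := Finset.mem_filter.mp hχ
      refine hT2 χ hχT ?_
      have := hdeg χ hχT
      rw [hχS, hD1.2.1, h5] at this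
      exact_mod_cast this
    · nlinarith
  have hu2 : u = r := by rw [hup, he2]; ring
  have ha1 : a = 1 := by rw [hae, he2]; ring
  have hw0 : w = 0 := by linarith
  have hex : ∀ t : ℤ, (0 : ℤ) < ((T.filter fun χ => S χ = t).card : ℤ) →
      ∃ χ ∈ T, S χ = t := fun t ht => by
    obtain ⟨χ, hχ⟩ := Finset.card_pos.mp (by exact_mod_cast ht)
    exact ⟨χ, Finset.mem_filter.mp hχ⟩
  refine ⟨?_, ?_, hout, ?_⟩
  · obtain ⟨χ, hχ, hs⟩ := hex r (by linarith)
    refine ⟨χ, hTM χ hχ, ?_⟩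
    have := hdeg χ hχ
    rw [hs, hD1.1] at this
    omega
  · obtain ⟨χ, hχ, hs⟩ := hex (-1) (by linarith)
    refine ⟨χ, hTM χ hχ, ?_, hTne χ hχ⟩
    have := hdeg χ hχ
    rw [hs, hD1.2.2, he2] at this
    omega
  · rw [← Finset.add_sum_erase _ _ honeB, Finset.sum_congr rfl (g := fun χ => D (S χ) ^ 2)
      (fun χ hχ => by rw [hdeg χ hχ]), e4, ← deg_eq, hone, Setup.deg_triv, hw0, hu2, ha1, he2]
    exact ⟨(p : ℤ) + (r : ℤ) * ((p : ℤ) - 2), by push_cast; ring⟩

end Cfsg.Agent.CharDeep.Small
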