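import Cfsg.Agent.CharDeep.Small.Counting
import Cfsg.Agent.CharDeep.Small.PrimeOrder
import Cfsg.Agent.Blocks88.Modular
import Mathlib.Dynamics.PeriodicPts.Lemmas

/-!
# All degrees below `p`: the Sylow `p`-subgroup is normal and abelian
-/

namespace Cfsg.Agent.CharDeep.Small

universe u

theorem degree_le_of_subgroup {G : Type u} [Group G] [Finite G] {p : ℕ}
    (hb : ∀ χ : Cfsg.IrrCharacter G, Cfsg.charDegree (χ : G → ℂ) < p) (H : Subgroup G)
    (θ : Cfsg.IrrCharacter H) : Cfsg.charDegree (θ : H → ℂ) < p := by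
  classical
  have := Fintype.ofFinite G
  have := Fintype.ofFinite H
  obtain ⟨χ, hχ, -⟩ := Deg.exists_over_subgroup H θ
  refine lt_of_le_of_lt (Deg.degree_le_of_constituent
    (CharCore.isCharacter_restrict (CharCore.irr_isCharacter χ) H) ?_ θ hχ) (hb χ)
  exact Deg.apply_one χ

theorem degree_lt_of_quotient {G : Type u} [Group G] [Finite G] {p : ℕ}
    (hb : ∀ χ : Cfsg.IrrCharacter G, Cfsg.charDegree (χ : G → ℂ) < p) (N : Subgroup G) [N.Normal]
    (θ : Cfsg.IrrCharacter (G ⧸ N)) : Cfsg.charDegree (θ : G ⧸ N → ℂ) < p := by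
  obtain ⟨χ, hχ, -⟩ := Deg.exists_inflate N θ
  exact hχ ▸ hb χ

theorem commute_sylow {G : Type u} [Group G] [Finite G] {p : ℕ} [Fact p.Prime]
    (hb : ∀ χ : Cfsg.IrrCharacter G, Cfsg.charDegree (χ : G → ℂ) < p) (P : Sylow p G) :
    ∀ a ∈ (P : Subgroup G), ∀ b ∈ (P : Subgroup G), a * b = b * a := by
  classical
  have := Fintype.ofFinite (P : Subgroup G)
  intro a ha b hb'
  refine congrArg Subtype.val (Deg.commute_of_degree_one (G := (P : Subgroup G)) (fun θ => ?_)
    ⟨a, ha⟩ ⟨b, hb'⟩)
  obtain ⟨k, hk⟩ := IsPGroup.iff_card.mp P.2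
  have h1 : Cfsg.charDegree (θ : ↥(P : Subgroup G) → ℂ) ∣ p ^ k := by
    have := Deg.degree_dvd_index θ (⊥ : Subgroup (P : Subgroup G)) (by simp)
    rwa [Subgroup.index_bot, hk] at this
  obtain ⟨i, -, hi⟩ := (Nat.dvd_prime_pow Fact.out).mp h1
  rcases Nat.eq_zero_or_pos i with rfl | hi0
  · simpa using hi
  · have := degree_le_of_subgroup hb _ θ
    rw [hi] at this
    exact absurd this (not_lt.mpr (Nat.le_self_pow hi0.ne' p))

/-- A subgroup meeting all classes is everything. -/
theorem eq_top_of_meets_classes {N : Type*} [Group N] [Finite N] (F : Subgroup N)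
    (h : ∀ n : N, ∃ m : N, m⁻¹ * n * m ∈ F) : F = ⊤ := by
  let f : (N ⧸ F) × F → N := fun x => x.1.out * (x.2 : N) * x.1.out⁻¹
  have hs : Function.Surjective f := fun n => by
    obtain ⟨m, hm⟩ := h n
    obtain ⟨a, ha⟩ := QuotientGroup.mk_out_eq_mul F m
    refine ⟨((m : N ⧸ F), ⟨(a : N)⁻¹ * (m⁻¹ * n * m) * a,
      F.mul_mem (F.mul_mem (F.inv_mem a.2) hm) a.2⟩), ?_⟩
    simp only [f, ha]
    group
  have hb := (Nat.bijective_iff_surjective_and_card f).mpr ⟨hs, by
    rw [Nat.card_prod, ← Subgroup.card_eq_card_quotient_mul_card_subgroup]⟩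
  refine eq_top_iff.mpr fun n _ => ?_
  have := @hb.1 ((n : N ⧸ F), 1) (((1 : N) : N ⧸ F), 1) (by simp [f])
  have h1 := QuotientGroup.eq.mp (Prod.mk.injEq .. ▸ this).1.symm
  rwa [inv_one, one_mul] at h1

/-- The coprime case: a normal `p'`-complement is centralized. -/
theorem commute_complement {G : Type u} [Group G] [Finite G] {p : ℕ} [Fact p.Prime]
    (hb : ∀ χ : Cfsg.IrrCharacter G, Cfsg.charDegree (χ : G → ℂ) < p) (P : Sylow p G)
    (N : Subgroup G) [N.Normal] (hNp : ¬ p ∣ Nat.card N) (htop : (P : Subgroup G) ⊔ N = ⊤) :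
    ∀ x ∈ (P : Subgroup G), ∀ n ∈ N, x * n = n * x := by
  classical
  have := Fintype.ofFinite G
  have := Fintype.ofFinite N
  have hp : p.Prime := Fact.out
  obtain ⟨k, hk⟩ := IsPGroup.iff_card.mp P.2
  -- every character of `N` is invariant
  have hinv : ∀ (θ : Cfsg.IrrCharacter N), ∀ x ∈ (P : Subgroup G),
      CharClifford.conjFun N x (θ : N → ℂ) = θ := by
    intro θ x hx
    obtain ⟨χ, hχ⟩ := CharCore.exists_over N θ
    obtain ⟨θ₀, e, hθ₀, he, hin, hres⟩ := CharClifford.clifford_restrict N χ.2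
    obtain ⟨y, hy⟩ := CharClifford.exists_conjFun_eq_of_constituents N χ.2 hθ₀ θ.2
      (by
        intro h0
        apply he.ne'
        have h1 : ((e : ℕ) : ℂ) = 0 := hin.symm.trans h0
        exact_mod_cast h1) hχ
    have hmem : (θ : N → ℂ) ∈ CharClifford.conjOrbit N θ₀ :=
      (CharClifford.mem_conjOrbit N).mpr ⟨y, hy.symm⟩
    have hcard : (CharClifford.conjOrbit N θ₀).card < p := by
      obtain ⟨d₀, hd0, hd⟩ := CharCore.IsIrrCharacter.exists_degree hθ₀
      have hone : ∀ ψ ∈ CharClifford.conjOrbit N θ₀, ψ 1 = (d₀ : ℂ) := fun ψ hψ => by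
        obtain ⟨z, rfl⟩ := (CharClifford.mem_conjOrbit N).mp hψ
        rw [← hd, CharClifford.conjFun_apply]
        congr 1
        exact Subtype.ext (by simp)
      have h1 := congrFun hres 1
      rw [Pi.smul_apply, Finset.sum_apply, Finset.sum_congr rfl hone, Finset.sum_const,
        nsmul_eq_mul, smul_eq_mul, OneMemClass.coe_one, Deg.apply_one χ] at h1
      have h2 : Cfsg.charDegree (χ : G → ℂ) = e * ((CharClifford.conjOrbit N θ₀).card * d₀) := by
        exact_mod_cast h1
      have hdp : 0 < d₀ := hd0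
      calc (CharClifford.conjOrbit N θ₀).card
          ≤ (CharClifford.conjOrbit N θ₀).card * d₀ := Nat.le_mul_of_pos_right _ hdp
        _ ≤ e * ((CharClifford.conjOrbit N θ₀).card * d₀) := Nat.le_mul_of_pos_left _ he
        _ < p := h2 ▸ hb χ
    set f : (N → ℂ) → (N → ℂ) := CharClifford.conjFun N x with hf
    have hit : ∀ m, f^[m] (θ : N → ℂ) = CharClifford.conjFun N (x ^ m) (θ : N → ℂ) := by
      intro m
      induction m with
      | zero => simp
      | succ m ih =>
        rw [Function.iterate_succ_apply', ih, hf, CharClifford.conjFun_conjFun, pow_succ]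
    have horb : ∀ m, f^[m] (θ : N → ℂ) ∈ CharClifford.conjOrbit N θ₀ := fun m => by
      rw [hit, hy, CharClifford.conjFun_conjFun]
      exact (CharClifford.mem_conjOrbit N).mpr ⟨_, rfl⟩
    have hper : Function.minimalPeriod f (θ : N → ℂ) ∣ p ^ k := by
      refine Function.IsPeriodicPt.minimalPeriod_dvd ?_
      show f^[p ^ k] _ = _
      rw [hit, ← hk, show x ^ Nat.card P = 1 from
        orderOf_dvd_iff_pow_eq_one.mp (Subgroup.orderOf_dvd_natCard _ hx),
        CharClifford.conjFun_one]
    obtain ⟨i, -, hi⟩ := (Nat.dvd_prime_pow hp).mp hper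
    rcases Nat.eq_zero_or_pos i with rfl | hi0
    · exact Function.minimalPeriod_eq_one_iff_isFixedPt.mp (by simpa using hi)
    · exfalso
      have hle : Function.minimalPeriod f (θ : N → ℂ) ≤ (CharClifford.conjOrbit N θ₀).card := by
        rw [← Finset.card_range (Function.minimalPeriod f _)]
        refine Finset.card_le_card_of_injOn (fun m => f^[m] (θ : N → ℂ)) (fun m _ => horb m) ?_
        intro a ha b hb' hab
        exact (Function.iterate_eq_iterate_iff_of_lt_minimalPeriod
          (Finset.mem_range.mp ha) (Finset.mem_range.mp hb')).mp hab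
      rw [hi] at hle
      have := Nat.le_self_pow hi0.ne' p
      omega
  -- every class of `N` meets the centralizer of `P`
  have hmeet : ∀ n : N, ∃ m : N, m⁻¹ * n * m ∈
      (Subgroup.centralizer ((P : Subgroup G) : Set G)).subgroupOf N := by
    intro n
    have hCtop : ∀ g : G, ∃ c ∈ Subgroup.centralizer ({(n : G)} : Set G), ∃ m ∈ N, g = m * c := by
      intro g
      have hg : g ∈ N ⊔ (P : Subgroup G) := by rw [sup_comm, htop]; trivial
      obtain ⟨m, hm, x, hx, rfl⟩ := Subgroup.mem_sup_of_normal_left.mp hg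
      obtain ⟨v, hv⟩ := isConj_iff.mp ((CharCore.isConj_iff_forall_irr n
        (⟨x * n * x⁻¹, Subgroup.Normal.conj_mem inferInstance _ n.2 x⟩ : N)).mpr fun θ =>
          (congrFun (hinv θ x hx) n).symm)
      have hv' : (v : G) * n * (v : G)⁻¹ = x * n * x⁻¹ := congrArg Subtype.val hv
      refine ⟨(v : G)⁻¹ * x, Subgroup.mem_centralizer_singleton_iff.mpr ?_, m * v,
        N.mul_mem hm v.2, by group⟩
      calc (v : G)⁻¹ * x * n = (v : G)⁻¹ * (x * n * x⁻¹) * x := by group
        _ = n * ((v : G)⁻¹ * x) := by rw [← hv']; group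
    set C := Subgroup.centralizer ({(n : G)} : Set G)
    have hdvd : p ^ k ∣ Nat.card C := by
      have h1 : Function.Surjective ((QuotientGroup.mk' N).comp C.subtype) := fun q => by
        obtain ⟨g, rfl⟩ := QuotientGroup.mk'_surjective N q
        obtain ⟨c, hc, m, hm, rfl⟩ := hCtop g
        refine ⟨⟨c, hc⟩, ?_⟩
        rw [map_mul, show QuotientGroup.mk' N m = 1 from (QuotientGroup.eq_one_iff m).mpr hm,
          one_mul]
        rfl
      refine dvd_trans ?_ (Subgroup.card_dvd_of_surjective _ h1)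
      refine Nat.Coprime.dvd_of_dvd_mul_right
        ((hp.coprime_iff_not_dvd.mpr hNp).pow_left k) ?_
      rw [← Subgroup.card_eq_card_quotient_mul_card_subgroup N, ← hk]
      exact Subgroup.card_subgroup_dvd_card _
    obtain ⟨R, hR⟩ := Sylow.exists_subgroup_card_pow_prime p hdvd
    have hR' : Nat.card (R.map C.subtype) = p ^ k := by
      rw [Subgroup.card_map_of_injective C.subtype_injective, hR]
    obtain ⟨S, hS⟩ := (IsPGroup.of_card (n := k) hR').exists_le_sylow
    have hSR : R.map C.subtype = S := Subgroup.eq_of_le_of_card_ge hS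
      (by rw [hR', ← hk, Sylow.card_eq_multiplicity P, Sylow.card_eq_multiplicity S])
    obtain ⟨g, hg⟩ := MulAction.exists_smul_eq G P S
    have hg' : g ∈ N ⊔ (P : Subgroup G) := by rw [sup_comm, htop]; trivial
    obtain ⟨m, hm, x, hx, rfl⟩ := Subgroup.mem_sup_of_normal_left.mp hg'
    refine ⟨⟨m, hm⟩, Subgroup.mem_subgroupOf.mpr (Subgroup.mem_centralizer_iff.mpr ?_)⟩
    intro y hy
    have h3 : m * x * (x⁻¹ * y * x) * (m * x)⁻¹ ∈ (S : Subgroup G) := by
      rw [← hg]
      exact ⟨x⁻¹ * y * x, (P : Subgroup G).mul_mem ((P : Subgroup G).mul_mem (inv_mem hx) hy) hx,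
        rfl⟩
    rw [show m * x * (x⁻¹ * y * x) * (m * x)⁻¹ = m * y * m⁻¹ by group, ← hSR] at h3
    obtain ⟨c, -, hc⟩ := h3
    have h4 := Subgroup.mem_centralizer_singleton_iff.mp c.2
    have hc' : (c : G) = m * y * m⁻¹ := hc
    rw [hc'] at h4
    push_cast
    calc y * (m⁻¹ * (n : G) * m) = m⁻¹ * (m * y * m⁻¹ * n) * m := by group
      _ = m⁻¹ * (n : G) * m * y := by rw [h4]; group
  intro x hx n hn
  have := eq_top_of_meets_classes _ hmeet
  have h5 : n ∈ Subgroup.centralizer ((P : Subgroup G) : Set G) :=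
    (this ▸ Subgroup.mem_top (⟨n, hn⟩ : N) :
      (⟨n, hn⟩ : N) ∈ (Subgroup.centralizer ((P : Subgroup G) : Set G)).subgroupOf N)
  exact Subgroup.mem_centralizer_iff.mp h5 x hx

/-- All degrees below `p`: the Sylow `p`-subgroups are normal. -/
theorem normal_sylow_aux (p : ℕ) [Fact p.Prime] : ∀ (n : ℕ) (G : Type u) [Group G] [Finite G],
    Nat.card G = n → (∀ χ : Cfsg.IrrCharacter G, Cfsg.charDegree (χ : G → ℂ) < p) →
    ∀ P : Sylow p G, (P : Subgroup G).Normal := by
  intro n
  induction n using Nat.strong_induction_on with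
  | h n ih =>
  intro G _ _ hn hb P
  subst hn
  classical
  have hp : p.Prime := Fact.out
  have hlt : ∀ H : Subgroup G, H ≠ ⊤ → Nat.card H < Nat.card G := fun H hH =>
    lt_of_le_of_ne (Subgroup.card_le_card_group H) fun h => hH (Subgroup.card_eq_iff_eq_top H |>.mp h)
  have hsub : ∀ H : Subgroup G, H ≠ ⊤ → ∀ S : Sylow p H, (S : Subgroup H).Normal :=
    fun H hH S => ih _ (hlt H hH) H rfl (degree_le_of_subgroup hb H) S
  have hquot : ∀ N : Subgroup G, N.Normal → N ≠ ⊥ → ((P : Subgroup G) ⊔ N).Normal := by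
    intro N _ hN
    have h1 : Nat.card (G ⧸ N) < Nat.card G := by
      have h2 := Subgroup.card_eq_card_quotient_mul_card_subgroup N
      have h3 : 1 < Nat.card N := (Subgroup.one_lt_card_iff_ne_bot N).mpr hN
      rw [h2]
      exact lt_mul_of_one_lt_right Nat.card_pos h3
    have h4 := ih _ h1 (G ⧸ N) rfl (degree_lt_of_quotient hb N)
      (P.mapSurjective (QuotientGroup.mk'_surjective N))
    rw [Sylow.coe_mapSurjective] at h4
    have h5 := h4.comap (QuotientGroup.mk' N)
    rwa [Subgroup.comap_map_eq, QuotientGroup.ker_mk'] at h5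
  by_cases hP : (P : Subgroup G) = ⊥
  · rw [hP]; infer_instance
  have hab := commute_sylow hb
  by_cases hcomm : ∀ a b : G, a * b = b * a
  · exact ⟨fun x hx g => by rwa [hcomm g x, mul_inv_cancel_right]⟩
  by_cases hsimple : ∀ N : Subgroup G, N.Normal → N = ⊥ ∨ N = ⊤
  · -- the simple case
    haveI : Nontrivial G := by
      by_contra h
      rw [not_nontrivial_iff_subsingleton] at h
      exact hcomm fun a b => Subsingleton.elim _ _
    haveI : IsSimpleGroup G := ⟨hsimple⟩
    by_contra hnn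
    have hcen : Subgroup.center G = ⊥ := by
      rcases hsimple (Subgroup.center G) inferInstance with h | h
      · exact h
      · exact absurd (fun a b => (Subgroup.mem_center_iff.mp (h ▸ Subgroup.mem_top b)) a) hcomm
    have hcard := card_sylow_eq P hab hcen hP hnn hb hsub
    haveI := Fintype.ofFinite G
    have hlin : ∀ χ : Cfsg.IrrCharacter G, Cfsg.charDegree (χ : G → ℂ) = 1 →
        ∀ g, (χ : G → ℂ) g = 1 := by
      intro χ h g
      obtain ⟨f, hf⟩ := CharCore.IsCharacter.exists_hom_of_degree_one (CharCore.irr_isCharacter χ)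
        (by rw [Deg.apply_one χ, h, Nat.cast_one])
      rcases hsimple f.ker inferInstance with hk | hk
      · refine absurd (fun a b => ?_) hcomm
        exact (f.ker_eq_bot_iff.mp hk) (by rw [map_mul, map_mul, mul_comm])
      · rw [hf]
        simp [f.mem_ker.mp (hk ▸ Subgroup.mem_top g)]
    have hfaith : ∀ χ : Cfsg.IrrCharacter G, (∃ g, (χ : G → ℂ) g ≠ 1) →
        ∀ g, (χ : G → ℂ) g = (χ : G → ℂ) 1 → g = 1 := by
      intro χ ⟨w, hw⟩ g hg
      have hn := transKer_normal (CharCore.irr_isClassFunction χ)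
      rcases hsimple _ hn with hk | hk
      · exact Subgroup.mem_bot.mp (hk ▸ mem_transKer_of_apply_eq (CharCore.irr_isCharacter χ) hg)
      · exfalso
        have h1 : (χ : G → ℂ) 1 = 1 :=
          irr_apply_one_eq_one χ.2 (le_top.trans hk.ge)
        refine hw (hlin χ ?_ w)
        rw [Deg.degree_of_eq (n := 1) (by rw [h1, Nat.cast_one])]
    have hp2 : p ≠ 2 := by
      intro h2
      refine hcomm (Deg.commute_of_degree_one fun χ => ?_)
      have := hb χ
      have := Deg.degree_pos χ
      omega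
    haveI : IsCyclic (P : Subgroup G) := isCyclic_of_prime_card hcard
    obtain ⟨⟨z, hzP⟩, hgen⟩ := IsCyclic.exists_generator (α := (P : Subgroup G))
    have hz : orderOf z = p := by
      rw [← Subgroup.orderOf_mk z hzP, orderOf_eq_card_of_forall_mem_zpowers hgen, hcard]
    have hzP' : Subgroup.zpowers z = (P : Subgroup G) :=
      Subgroup.eq_of_le_of_card_ge (Subgroup.zpowers_le.mpr hzP)
        (by rw [Nat.card_zpowers, hz, hcard])
    obtain ⟨s, rfl⟩ := BlocksCore.CyclicCount.exists_setup hz (hzP' ▸ P.not_dvd_index)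
    obtain ⟨M, hM⟩ := Blocks88.exists_isPModular hp
    obtain ⟨-, ⟨χ, -, hχ, hχ1⟩, hout, hsq⟩ :=
      principal_degrees s hM (hzP' ▸ P.not_dvd_index) hp2 hlin hfaith fun χ _ => hb χ
    have hall : ∀ χ : Cfsg.IrrCharacter G, χ ∈ Cfsg.principalBlock M G := fun χ => by
      by_contra h
      exact absurd (Nat.le_of_dvd (Deg.degree_pos χ) (hout χ h)) (not_le.mpr (hb χ))
    rw [Finset.filter_true_of_mem fun χ _ => hall χ] at hsq
    have hG : (∑ χ : Cfsg.IrrCharacter G, (Cfsg.charDegree (χ : G → ℂ) : ℤ) ^ 2) = Nat.card G := by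
      apply Int.cast_injective (α := ℂ)
      push_cast
      rw [← CharCore.sum_degree_sq]
      exact Finset.sum_congr rfl fun χ _ => by rw [Deg.apply_one χ]
    rw [hG] at hsq
    have hdvd : ((p : ℤ) - 2) ∣ (Nat.card G : ℤ) := by
      have : ((Cfsg.charDegree (χ : G → ℂ) : ℕ) : ℤ) = (p : ℤ) - 2 := by omega
      rw [← this, Int.natCast_dvd_natCast, ← deg_eq χ]
      exact (SmallGroups.SelfCent.Setup.deg_spec χ).2.1
    have h2 : ((Cfsg.charDegree (χ : G → ℂ) : ℕ) : ℤ) ∣ 2 := by
      rw [show ((Cfsg.charDegree (χ : G → ℂ) : ℕ) : ℤ) = (p : ℤ) - 2 by omega]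
      exact (dvd_sub_right hdvd).mp hsq
    have h3 : Cfsg.charDegree (χ : G → ℂ) ∣ 2 := by exact_mod_cast h2
    obtain ⟨g, hg⟩ := hχ1
    rcases (Nat.dvd_prime Nat.prime_two).mp h3 with h | h
    · exact hg (hlin χ h g)
    · obtain ⟨j, hj⟩ := hp.odd_of_ne_two hp2
      omega
  · push Not at hsimple
    obtain ⟨N, hN, hN1, hN2⟩ := hsimple
    by_cases htop : (P : Subgroup G) ⊔ N = ⊤
    · obtain ⟨Q⟩ := (inferInstance : Nonempty (Sylow p N))
      have hQn := hsub N hN2 Q
      haveI := Q.characteristic_of_normal hQn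
      haveI hQ' : ((Q : Subgroup N).map N.subtype).Normal :=
        ConjAct.normal_of_characteristic_of_normal
      have hQP : (Q : Subgroup N).map N.subtype ≤ (P : Subgroup G) := by
        have := P.3 (P.2.to_sup_of_normal_right (Q.2.map N.subtype)) le_sup_left
        exact le_sup_right.trans this.le
      by_cases hQ : (Q : Subgroup N).map N.subtype = ⊥
      · have hNp : ¬ p ∣ Nat.card N := by
          intro h
          have h1 := Q.card_eq_multiplicity
          rw [(Subgroup.map_eq_bot_iff_of_injective _ N.subtype_injective).mp hQ,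
            Subgroup.card_bot] at h1
          have := hp.factorization_pos_of_dvd Nat.card_pos.ne' h
          exact absurd h1.symm (Nat.one_lt_pow this.ne' hp.one_lt).ne'
        refine ⟨fun x hx g => ?_⟩
        have hg : g ∈ N ⊔ (P : Subgroup G) := by rw [sup_comm, htop]; trivial
        obtain ⟨m, hm, y, hy, rfl⟩ := Subgroup.mem_sup_of_normal_left.mp hg
        have hyx : y * x * y⁻¹ = x := by rw [hab P y hy x hx, mul_inv_cancel_right]
        rw [show m * y * x * (m * y)⁻¹ = m * (y * x * y⁻¹) * m⁻¹ by group, hyx,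
          ← commute_complement hb P N hNp htop x hx m hm, mul_inv_cancel_right]
        exact hx
      · have h1 := hquot _ hQ' hQ
        rwa [sup_eq_left.mpr hQP] at h1
    · have hH := hquot N hN hN1
      have hS := hsub _ htop (P.subtype le_sup_left)
      haveI := (P.subtype (le_sup_left (b := N))).characteristic_of_normal hS
      rw [Sylow.coe_subtype] at this
      have h2 : (((P : Subgroup G).subgroupOf ((P : Subgroup G) ⊔ N)).map
          ((P : Subgroup G) ⊔ N).subtype).Normal := ConjAct.normal_of_characteristic_of_normal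
      rwa [Subgroup.map_subgroupOf_eq_of_le le_sup_left] at h2

end Cfsg.Agent.CharDeep.Small
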