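import Cfsg.Agent.CharDeep.Deg.Basic
import Cfsg.Agent.CharDeep.Deg.TwoDeg
import Mathlib.GroupTheory.Sylow

/-!
# Groups with small degrees: an abelian TI Sylow subgroup has prime order
-/

namespace Cfsg.Agent.CharDeep.Small

open scoped ComplexConjugate

variable {G : Type*} [Group G] [Finite G] {p : ℕ} [Fact p.Prime]

/-- The sum of the degrees, weighted by the order of an abelian subgroup. -/
theorem sum_degree_le (A : Subgroup G) (hab : ∀ a ∈ A, ∀ b ∈ A, a * b = b * a) {c : ℕ}
    (hc : ∀ u ∈ A, u ≠ 1 → Nat.card (Subgroup.centralizer ({u} : Set G)) ≤ c) :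
    Nat.card A * ∑ χ : Cfsg.IrrCharacter G, Cfsg.charDegree (χ : G → ℂ) ≤
      Nat.card G + (Nat.card A - 1) * c := by
  classical
  have := Fintype.ofFinite G
  have hres : ∀ χ : Cfsg.IrrCharacter G, ∃ s : ℕ, Cfsg.charDegree (χ : G → ℂ) ≤ s ∧
      (∑ a : A, (χ : G → ℂ) a * conj ((χ : G → ℂ) a)) = ((Nat.card A * s : ℕ) : ℂ) := by
    intro χ
    set f : A → ℂ := fun a => (χ : G → ℂ) a with hf
    have hfc : Cfsg.IsCharacter A f :=
      CharCore.isCharacter_restrict (CharCore.irr_isCharacter χ) A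
    choose m hm using fun θ : Cfsg.IrrCharacter A =>
      CharCore.IsCharacter.exists_classInner_irr_eq_natCast hfc θ
    have hlin : ∀ θ : Cfsg.IrrCharacter A, (θ : A → ℂ) 1 = 1 := fun θ => by
      have h := Deg.degree_dvd_index θ ⊤ fun a _ b _ => Subtype.ext (hab _ a.2 _ b.2)
      rw [Subgroup.index_top, Nat.dvd_one] at h
      rw [Deg.apply_one θ, h, Nat.cast_one]
    have hfe : f = ∑ θ : Cfsg.IrrCharacter A, (m θ : ℂ) • (θ : A → ℂ) := by
      conv_lhs => rw [CharCore.IsCharacter.eq_sum_classInner hfc]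
      simp only [hm]
    refine ⟨∑ θ, m θ * m θ, ?_, ?_⟩
    · have h1 : ((Cfsg.charDegree (χ : G → ℂ) : ℕ) : ℂ) = ((∑ θ, m θ : ℕ) : ℂ) := by
        rw [← Deg.apply_one χ, Nat.cast_sum]
        have := congrFun hfe 1
        simpa [hf, hlin] using this
      rw [Nat.cast_injective h1]
      exact Finset.sum_le_sum fun θ _ => Nat.le_mul_self _
    · have h1 : Cfsg.classInner f f = ((∑ θ, m θ * m θ : ℕ) : ℂ) := by
        rw [hfe, CharCore.classInner_sum_sum]
        push_cast
        exact Finset.sum_congr rfl fun θ _ => by rw [Complex.conj_natCast]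
      rw [Cfsg.classInner] at h1
      rw [Nat.cast_mul, ← h1, ← mul_assoc,
        mul_inv_cancel₀ (Nat.cast_ne_zero.mpr Nat.card_pos.ne'), one_mul]
  choose s hs hsum using hres
  have key : ((∑ χ, Nat.card A * s χ : ℕ) : ℂ) =
      ((∑ a : A, Nat.card (Subgroup.centralizer ({(a : G)} : Set G)) : ℕ) : ℂ) := by
    rw [Nat.cast_sum, Nat.cast_sum]
    simp only [← hsum]
    rw [Finset.sum_comm]
    refine Finset.sum_congr rfl fun a _ => ?_
    rw [CharCore.sum_apply_mul_conj, if_pos (IsConj.refl _)]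
  calc Nat.card A * ∑ χ : Cfsg.IrrCharacter G, Cfsg.charDegree (χ : G → ℂ)
      ≤ ∑ χ, Nat.card A * s χ := by
        rw [Finset.mul_sum]
        exact Finset.sum_le_sum fun χ _ => Nat.mul_le_mul_left _ (hs χ)
    _ = ∑ a : A, Nat.card (Subgroup.centralizer ({(a : G)} : Set G)) := Nat.cast_injective key
    _ ≤ Nat.card G + (Nat.card A - 1) * c := by
        rw [← Finset.add_sum_erase _ _ (Finset.mem_univ (1 : A))]
        refine Nat.add_le_add (Subgroup.card_le_card_group _) ?_
        refine (Finset.sum_le_card_nsmul _ _ c fun (a : A) ha => hc _ a.2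
          fun h => Finset.ne_of_mem_erase ha (Subtype.ext h)).trans (le_of_eq ?_)
        rw [Finset.card_erase_of_mem (Finset.mem_univ _), Finset.card_univ,
          ← Nat.card_eq_fintype_card, smul_eq_mul]

/-- In a simple group with small degrees whose proper subgroups have normal Sylow
`p`-subgroups, the Sylow `p`-subgroup has order `p`. -/
theorem card_sylow_eq [IsSimpleGroup G] (P : Sylow p G)
    (hab : ∀ Q : Sylow p G, ∀ a ∈ (Q : Subgroup G), ∀ b ∈ (Q : Subgroup G), a * b = b * a)
    (hcen : Subgroup.center G = ⊥) (hne : (P : Subgroup G) ≠ ⊥) (hnn : ¬ (P : Subgroup G).Normal)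
    (hb : ∀ χ : Cfsg.IrrCharacter G, Cfsg.charDegree (χ : G → ℂ) < p)
    (hsub : ∀ H : Subgroup G, H ≠ ⊤ → ∀ S : Sylow p H, (S : Subgroup H).Normal) :
    Nat.card P = p := by
  classical
  have := Fintype.ofFinite G
  have hp : p.Prime := Fact.out
  have hproper : ∀ u : G, u ≠ 1 → Subgroup.centralizer ({u} : Set G) ≠ ⊤ := by
    intro u hu h
    refine hu (Subgroup.mem_bot.mp (hcen ▸ Subgroup.mem_center_iff.mpr fun g => ?_))
    exact Subgroup.mem_centralizer_singleton_iff.mp (h ▸ Subgroup.mem_top g)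
  have hle : ∀ (Q : Sylow p G) u, u ∈ (Q : Subgroup G) →
      (Q : Subgroup G) ≤ Subgroup.centralizer ({u} : Set G) := fun Q u hu x hx =>
    Subgroup.mem_centralizer_singleton_iff.mpr (hab Q x hx u hu)
  have hTI : ∀ Q : Sylow p G, ∀ u ∈ (P : Subgroup G), u ∈ (Q : Subgroup G) → u ≠ 1 → Q = P := by
    intro Q u huP huQ hu
    have hn := hsub _ (hproper u hu) (P.subtype (hle P u huP))
    have := Sylow.unique_of_normal _ hn
    exact Sylow.subtype_injective (Subsingleton.elim (Q.subtype (hle Q u huQ)) (P.subtype (hle P u huP)))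
  set N := Subgroup.normalizer ((P : Subgroup G) : Set G) with hN
  have hc : ∀ u ∈ (P : Subgroup G), u ≠ 1 →
      Nat.card (Subgroup.centralizer ({u} : Set G)) ≤ Nat.card N := by
    intro u huP hu
    refine Subgroup.card_le_of_le fun x hx => ?_
    refine Sylow.smul_eq_iff_mem_normalizer.mp (hTI _ u huP ?_ hu)
    rw [Sylow.coe_subgroup_smul, Subgroup.mem_pointwise_smul_iff_inv_smul_mem]
    have hx' := Subgroup.mem_centralizer_singleton_iff.mp (inv_mem hx)
    rw [MulAut.smul_def, MulAut.conj_inv_apply, hx', inv_mul_cancel_right]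
    exact huP
  have hinj : Function.Injective fun a : Option P => match a with
      | none => P
      | some a => (a : G) • (Classical.epsilon fun Q : Sylow p G => Q ≠ P) := by
    have hex : ∃ Q : Sylow p G, Q ≠ P := by
      by_contra h
      push Not at h
      haveI : Subsingleton (Sylow p G) := ⟨fun a b => by rw [h a, h b]⟩
      exact hnn (P.normal_of_subsingleton)
    set Q := Classical.epsilon fun Q : Sylow p G => Q ≠ P with hQ
    have hQne : Q ≠ P := Classical.epsilon_spec hex
    have hfix : ∀ a : P, (a : G) • Q ≠ P := fun a h => hQne (by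
      have h2 := congrArg (fun R : Sylow p G => (a : G)⁻¹ • R) h
      simp only [inv_smul_smul] at h2
      rw [h2]
      exact Sylow.smul_eq_iff_mem_normalizer.mpr (Subgroup.le_normalizer (inv_mem a.2)))
    rintro (_ | a) (_ | b) h <;> simp only at h
    · rfl
    · exact absurd h.symm (hfix b)
    · exact absurd h (hfix a)
    · have h2 : ((a⁻¹ * b : P) : G) • Q = Q := by
        rw [Subgroup.coe_mul, Subgroup.coe_inv, mul_smul, ← h, inv_smul_smul]
      have h3 := Sylow.smul_eq_iff_mem_normalizer.mp h2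
      obtain ⟨k, hk⟩ := IsPGroup.iff_orderOf.mp P.2 (a⁻¹ * b)
      have hk' : orderOf ((a⁻¹ * b : P) : G) = p ^ k := (Subgroup.orderOf_coe _).trans hk
      have hpg : IsPGroup p (Subgroup.zpowers ((a⁻¹ * b : P) : G)) :=
        IsPGroup.of_card (n := k) (by rw [Nat.card_zpowers, hk'])
      have h4 : ((a⁻¹ * b : P) : G) ∈ (Q : Subgroup G) := by
        have := (hpg.inf_normalizer_sylow Q).le
          (Subgroup.mem_inf.mpr ⟨Subgroup.mem_zpowers _, h3⟩)
        exact (Subgroup.mem_inf.mp this).2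
      by_cases h5 : ((a⁻¹ * b : P) : G) = 1
      · rw [inv_mul_eq_one.mp (Subtype.ext h5 : a⁻¹ * b = 1)]
      · exact absurd (hTI Q _ (a⁻¹ * b).2 h4 h5) hQne
  have hn : Nat.card P + 1 ≤ N.index := by
    refine le_of_le_of_eq ?_ P.card_eq_index_normalizer
    rw [← Finite.card_option]
    exact Nat.card_le_card_of_injective _ hinj
  have hsum := sum_degree_le (P : Subgroup G) (hab P) hc
  have hsq : Nat.card G ≤ (p - 1) * ∑ χ : Cfsg.IrrCharacter G, Cfsg.charDegree (χ : G → ℂ) := by
    have h1 : ((∑ χ : Cfsg.IrrCharacter G, Cfsg.charDegree (χ : G → ℂ) ^ 2 : ℕ) : ℂ) =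
        (Nat.card G : ℂ) := by
      rw [← CharCore.sum_degree_sq, Nat.cast_sum]
      exact Finset.sum_congr rfl fun χ _ => by rw [Nat.cast_pow, Deg.apply_one χ]
    rw [← Nat.cast_injective h1, Finset.mul_sum]
    exact Finset.sum_le_sum fun χ _ => by
      rw [sq]
      exact Nat.mul_le_mul_right _ (Nat.le_sub_one_of_lt (hb χ))
  obtain ⟨k, hk⟩ := IsPGroup.iff_card.mp P.2
  have hk0 : k ≠ 0 := fun h => hne (Subgroup.card_eq_one.mp (by rw [hk, h, pow_zero]))
  by_contra hne'
  have hk2 : p ^ 2 ≤ Nat.card P := by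
    rw [hk]
    refine Nat.pow_le_pow_right hp.pos ?_
    by_contra h
    exact hne' (by rw [hk, show k = 1 by omega, pow_one])
  have hG := Subgroup.index_mul_card N
  have hN0 : 0 < Nat.card N := Nat.card_pos
  generalize Nat.card N = c at hsum hG hN0
  generalize (∑ χ : Cfsg.IrrCharacter G, Cfsg.charDegree (χ : G → ℂ)) = S at hsum hsq
  generalize Nat.card P = q at hsum hn hk2 hk hne'
  generalize N.index = n at hn hG
  obtain ⟨r, rfl⟩ : ∃ r, p = r + 1 := ⟨p - 1, by have := hp.pos; omega⟩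
  simp only [Nat.add_sub_cancel] at hsq
  have h2 : q * (n * c) ≤ r * (n * c + (q - 1) * c) := by
    rw [hG]
    calc q * Nat.card G ≤ q * (r * S) := Nat.mul_le_mul_left _ hsq
      _ = r * (q * S) := by ring
      _ ≤ _ := Nat.mul_le_mul_left _ hsum
  have h3 : q * n ≤ r * (n + (q - 1)) := Nat.le_of_mul_le_mul_right (by linarith) hN0
  have h4 : q - 1 ≤ q := Nat.sub_le _ _
  nlinarith [hk2, hn, h3, h4]

end Cfsg.Agent.CharDeep.Small
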