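import Cfsg.Agent.CharDeep.Small.Induction
import Cfsg.Agent.CharDeep.Deg.DegreeP
import Cfsg.Agent.Lib.CharCore.Burnside

/-!
# All nonlinear degrees prime: the group is solvable
-/

namespace Cfsg.Agent.CharDeep.Small

universe u

open scoped ComplexConjugate

theorem simple_facts {G : Type u} [Group G] [Finite G] [IsSimpleGroup G]
    (hnc : ¬ ∀ a b : G, a * b = b * a) :
    (∀ χ : Cfsg.IrrCharacter G, Cfsg.charDegree (χ : G → ℂ) = 1 → ∀ g, (χ : G → ℂ) g = 1) ∧
    (∀ χ : Cfsg.IrrCharacter G, (∃ g, (χ : G → ℂ) g ≠ 1) →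
      ∀ g, (χ : G → ℂ) g = (χ : G → ℂ) 1 → g = 1) ∧ Subgroup.center G = ⊥ := by
  classical
  have := Fintype.ofFinite G
  have hsimple : ∀ N : Subgroup G, N.Normal → N = ⊥ ∨ N = ⊤ := fun N hN =>
    hN.eq_bot_or_eq_top
  have hlin : ∀ χ : Cfsg.IrrCharacter G, Cfsg.charDegree (χ : G → ℂ) = 1 →
      ∀ g, (χ : G → ℂ) g = 1 := by
    intro χ h g
    obtain ⟨f, hf⟩ := CharCore.IsCharacter.exists_hom_of_degree_one (CharCore.irr_isCharacter χ)
      (by rw [Deg.apply_one χ, h, Nat.cast_one])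
    rcases hsimple f.ker inferInstance with hk | hk
    · refine absurd (fun a b => ?_) hnc
      exact (f.ker_eq_bot_iff.mp hk) (by rw [map_mul, map_mul, mul_comm])
    · rw [hf]
      simp [f.mem_ker.mp (hk ▸ Subgroup.mem_top g)]
  refine ⟨hlin, ?_, ?_⟩
  · intro χ ⟨w, hw⟩ g hg
    rcases hsimple _ (transKer_normal (CharCore.irr_isClassFunction χ)) with hk | hk
    · exact Subgroup.mem_bot.mp (hk ▸ mem_transKer_of_apply_eq (CharCore.irr_isCharacter χ) hg)
    · exfalso
      have h1 : (χ : G → ℂ) 1 = 1 := irr_apply_one_eq_one χ.2 (le_top.trans hk.ge)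
      exact hw (hlin χ (Deg.degree_of_eq (n := 1) (by rw [h1, Nat.cast_one])) w)
  · rcases hsimple (Subgroup.center G) inferInstance with h | h
    · exact h
    · exact absurd (fun a b => (Subgroup.mem_center_iff.mp (h ▸ Subgroup.mem_top b)) a) hnc

/-- In a nonabelian simple group `|χ g| = χ 1` only at the identity. -/
theorem eq_one_of_norm {G : Type u} [Group G] [Finite G] [IsSimpleGroup G]
    (hnc : ¬ ∀ a b : G, a * b = b * a) (χ : Cfsg.IrrCharacter G)
    (hχ : ∃ g, (χ : G → ℂ) g ≠ 1) {g : G}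
    (hg : ‖(χ : G → ℂ) g‖ = (Cfsg.charDegree (χ : G → ℂ) : ℝ)) : g = 1 := by
  obtain ⟨hlin, hfaith, hcen⟩ := simple_facts hnc
  obtain ⟨n, ρ, hρ, hchar⟩ := χ.2
  have hfin : (Cfsg.charDegree (χ : G → ℂ) : ℂ) = (Module.finrank ℂ (Fin n → ℂ) : ℂ) := by
    rw [← Deg.apply_one χ, ← hchar, Representation.char_one]
  obtain ⟨c, hc⟩ := CharClifford.exists_scalar_of_norm_character_eq ρ g
    (by rw [hchar, hg, Nat.cast_injective hfin])
  refine Subgroup.mem_bot.mp (hcen ▸ Subgroup.mem_center_iff.mpr fun h => ?_)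
  refine mul_inv_eq_one.mp (hfaith χ hχ _ ?_)
  have h1 : ρ (h * g * (g * h)⁻¹) = 1 := by
    have h2 : ρ (h * g) = ρ (g * h) := by
      rw [map_mul, map_mul, hc, mul_smul_comm, smul_mul_assoc, one_mul, mul_one]
    rw [map_mul, h2, ← map_mul, mul_inv_cancel, map_one]
  rw [← hchar, Representation.character, h1, Representation.char_one]
  simp

theorem isSolvable_aux : ∀ (n : ℕ) (G : Type u) [Group G] [Finite G], Nat.card G = n →
    (∀ χ : Cfsg.IrrCharacter G, Cfsg.charDegree (χ : G → ℂ) ≠ 1 →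
      (Cfsg.charDegree (χ : G → ℂ)).Prime) → Group.IsSolvable G := by
  intro n
  induction n using Nat.strong_induction_on with
  | h n ih =>
  intro G _ _ hn h
  subst hn
  classical
  have := Fintype.ofFinite G
  by_cases hnc : ∀ a b : G, a * b = b * a
  · exact Group.isSolvable_of_comm hnc
  haveI : Nontrivial G := by
    by_contra hh
    rw [not_nontrivial_iff_subsingleton] at hh
    exact hnc fun a b => Subsingleton.elim _ _
  by_cases hsimple : ∀ N : Subgroup G, N.Normal → N = ⊥ ∨ N = ⊤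
  swap
  · push Not at hsimple
    obtain ⟨N, hN, hN1, hN2⟩ := hsimple
    haveI : Group.IsSolvable N := by
      refine ih _ (lt_of_le_of_ne (Subgroup.card_le_card_group N)
        fun hh => hN2 (Subgroup.card_eq_iff_eq_top N |>.mp hh)) N rfl fun θ hθ => ?_
      obtain ⟨χ, hχ⟩ := Deg.exists_dvd_of_normal N θ
      have hχ1 : Cfsg.charDegree (χ : G → ℂ) ≠ 1 := fun hh => hθ (Nat.dvd_one.mp (hh ▸ hχ))
      exact ((Nat.dvd_prime (h χ hχ1)).mp hχ).resolve_left hθ ▸ h χ hχ1
    haveI : Group.IsSolvable (G ⧸ N) := by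
      refine ih _ ?_ (G ⧸ N) rfl fun θ hθ => ?_
      · rw [Subgroup.card_eq_card_quotient_mul_card_subgroup N]
        exact lt_mul_of_one_lt_right Nat.card_pos ((Subgroup.one_lt_card_iff_ne_bot N).mpr hN1)
      · obtain ⟨χ, hχ, -⟩ := Deg.exists_inflate N θ
        exact hχ ▸ h χ (hχ ▸ hθ)
    exact Group.isSolvable_of_ker_le_range N.subtype (QuotientGroup.mk' N) (by simp)
  haveI : IsSimpleGroup G := ⟨hsimple⟩
  obtain ⟨hlin, hfaith, hcen⟩ := simple_facts hnc
  obtain ⟨q, hqmem, hqmax⟩ := Finset.exists_max_image (Nat.card G).primeFactors id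
    ⟨(Nat.card G).minFac, Nat.mem_primeFactors.mpr
      ⟨Nat.minFac_prime Finite.one_lt_card.ne', Nat.minFac_dvd _, Nat.card_pos.ne'⟩⟩
  obtain ⟨hq, hqdvd, -⟩ := Nat.mem_primeFactors.mp hqmem
  haveI : Fact q.Prime := ⟨hq⟩
  have hle : ∀ χ : Cfsg.IrrCharacter G, Cfsg.charDegree (χ : G → ℂ) ≤ q := fun χ => by
    by_cases h1 : Cfsg.charDegree (χ : G → ℂ) = 1
    · rw [h1]; exact hq.one_le
    · exact hqmax _ (Nat.mem_primeFactors.mpr ⟨h χ h1, BlocksCore.charDegree_dvd_card χ,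
        Nat.card_pos.ne'⟩)
  have hpgroup : IsPGroup q G → False := fun hG => hnc fun a b => by
    haveI := hG.isNilpotent
    have := IsSimpleGroup.comm_iff_isSolvable.mpr (inferInstance : Group.IsSolvable G)
    exact this a b
  have hq2 : q ≠ 2 := by
    intro h2
    refine hpgroup (IsPGroup.of_card (n := (Nat.card G).primeFactorsList.length)
      (Nat.eq_prime_pow_of_unique_prime_dvd Nat.card_pos.ne' fun {d} hd hdvd => ?_))
    exact le_antisymm (hqmax d (Nat.mem_primeFactors.mpr ⟨hd, hdvd, Nat.card_pos.ne'⟩))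
      (h2 ▸ hd.two_le)
  obtain ⟨P⟩ := (inferInstance : Nonempty (Sylow q G))
  have hPne : (P : Subgroup G) ≠ ⊥ := P.ne_bot_of_dvd_card hqdvd
  obtain ⟨ψ, hψ⟩ : ∃ χ : Cfsg.IrrCharacter G, Cfsg.charDegree (χ : G → ℂ) = q := by
    by_contra hno
    push Not at hno
    have hn := normal_sylow_aux q _ G rfl (fun χ => lt_of_le_of_ne (hle χ) (hno χ)) P
    exact hpgroup (P.2.to_le (le_of_eq ((hsimple _ hn).resolve_left hPne).symm) |>.of_equiv
      Subgroup.topEquiv)
  have hne1 : ∀ χ : Cfsg.IrrCharacter G, Cfsg.charDegree (χ : G → ℂ) = q →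
      ∃ g, (χ : G → ℂ) g ≠ 1 := fun χ hχ => ⟨1, by
    rw [Deg.apply_one χ, hχ]
    exact_mod_cast hq.ne_one⟩
  -- `P` is abelian
  have hab : ∀ a ∈ (P : Subgroup G), ∀ b ∈ (P : Subgroup G), a * b = b * a := by
    haveI := Fintype.ofFinite (P : Subgroup G)
    intro a ha b hb'
    refine congrArg Subtype.val (Deg.commute_of_degree_one (G := (P : Subgroup G)) (fun θ => ?_)
      ⟨a, ha⟩ ⟨b, hb'⟩)
    by_contra hθ
    obtain ⟨k, hk⟩ := IsPGroup.iff_card.mp P.2
    have h1 : Cfsg.charDegree (θ : ↥(P : Subgroup G) → ℂ) ∣ q ^ k := by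
      have := Deg.degree_dvd_index θ (⊥ : Subgroup (P : Subgroup G)) (by simp)
      rwa [Subgroup.index_bot, hk] at this
    obtain ⟨i, -, hi⟩ := (Nat.dvd_prime_pow hq).mp h1
    have hi0 : i ≠ 0 := fun h0 => hθ (by rw [hi, h0, pow_zero])
    obtain ⟨χ, hχ, -⟩ := Deg.exists_over_subgroup (P : Subgroup G) θ
    have hres := CharCore.isCharacter_restrict (CharCore.irr_isCharacter χ) (P : Subgroup G)
    have h2 := Deg.degree_le_of_constituent hres (Deg.apply_one χ) θ hχ
    have hθq : Cfsg.charDegree (θ : ↥(P : Subgroup G) → ℂ) = q ∧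
        Cfsg.charDegree (χ : G → ℂ) = q := by
      have := Nat.le_self_pow hi0 q
      have := hle χ
      omega
    have hre : (fun x : (P : Subgroup G) => (χ : G → ℂ) x) = (θ : ↥(P : Subgroup G) → ℂ) := by
      refine (Deg.eq_or_degree_lt hres θ hχ (Deg.apply_one θ) (Deg.apply_one χ)).resolve_right ?_
      omega
    haveI : Nontrivial (P : Subgroup G) := (Subgroup.nontrivial_iff_ne_bot _).mpr hPne
    haveI := P.2.center_nontrivial
    obtain ⟨z, hz⟩ := exists_ne (1 : Subgroup.center (P : Subgroup G))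
    obtain ⟨c, hc, hzc⟩ := Deg.exists_central_scalar θ z.2
    apply hz
    refine Subtype.ext (Subtype.ext (eq_one_of_norm hnc χ (hne1 χ hθq.2) ?_))
    have h3 := hzc 1
    rw [mul_one, ← congrFun hre, ← congrFun hre 1, OneMemClass.coe_one, Deg.apply_one χ] at h3
    have h4 : ‖c‖ = 1 := by
      have h5 : ‖c‖ * ‖c‖ = 1 := by
        rw [← Complex.norm_conj c] 
        nth_rewrite 1 [Complex.norm_conj c]
        rw [← norm_mul, hc, norm_one]
      nlinarith [norm_nonneg c]
    rw [h3, norm_mul, h4, one_mul, Complex.norm_natCast]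
  -- characters of degree `q` vanish on `P \ {1}`
  have hvan : ∀ χ : Cfsg.IrrCharacter G, Cfsg.charDegree (χ : G → ℂ) = q →
      ∀ x ∈ (P : Subgroup G), x ≠ 1 → (χ : G → ℂ) x = 0 := by
    intro χ hχ x hx hx1
    obtain ⟨n, ρ, hρ, hchar⟩ := χ.2
    have hfin : Module.finrank ℂ (Fin n → ℂ) = q := by
      refine Nat.cast_injective (R := ℂ) ?_
      rw [← Representation.char_one ρ, hchar, Deg.apply_one χ, hχ]
    have hcop : Nat.Coprime (Module.finrank ℂ (Fin n → ℂ))
        (Subgroup.centralizer ({x} : Set G)).index := by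
      rw [hfin, hq.coprime_iff_not_dvd]
      refine fun hh => P.not_dvd_index (hh.trans (Subgroup.index_dvd_of_le fun y hy => ?_))
      exact Subgroup.mem_centralizer_singleton_iff.mpr (hab y hy x hx)
    rcases CharCore.eq_zero_or_norm_eq_of_coprime ρ x hcop with h0 | h0
    · rwa [hchar] at h0
    · rw [hchar, hfin] at h0
      exact absurd (eq_one_of_norm hnc χ (hne1 χ hχ) (h0.trans (by rw [hχ]))) hx1
  have hcard : Nat.card P = q := by
    haveI := Fintype.ofFinite (P : Subgroup G)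
    obtain ⟨m, hm⟩ := CharCore.IsCharacter.exists_classInner_eq_natCast
      (CharCore.isCharacter_restrict (CharCore.irr_isCharacter ψ) (P : Subgroup G))
      (CharCore.isCharacter_one (G := (P : Subgroup G)))
    rw [Cfsg.classInner, ← Finset.add_sum_erase _ _ (Finset.mem_univ (1 : (P : Subgroup G))),
      Finset.sum_eq_zero fun x hx => by
        rw [hvan ψ hψ x x.2 fun h0 => Finset.ne_of_mem_erase hx (Subtype.ext h0), zero_mul],
      add_zero, OneMemClass.coe_one, Pi.one_apply, map_one, mul_one, Deg.apply_one ψ, hψ,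
      inv_mul_eq_iff_eq_mul₀ (Nat.cast_ne_zero.mpr Nat.card_pos.ne'), ← Nat.cast_mul,
      Nat.cast_inj] at hm
    rcases (Nat.dvd_prime hq).mp (Dvd.intro _ hm.symm) with h1 | h1
    · exact absurd (Subgroup.card_eq_one.mp h1) hPne
    · exact h1
  haveI : IsCyclic (P : Subgroup G) := isCyclic_of_prime_card hcard
  obtain ⟨⟨z, hzP⟩, hgen⟩ := IsCyclic.exists_generator (α := (P : Subgroup G))
  have hz : orderOf z = q := by
    rw [← Subgroup.orderOf_mk z hzP, orderOf_eq_card_of_forall_mem_zpowers hgen, hcard]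
  have hzP' : Subgroup.zpowers z = (P : Subgroup G) :=
    Subgroup.eq_of_le_of_card_ge (Subgroup.zpowers_le.mpr hzP)
      (by rw [Nat.card_zpowers, hz, hcard])
  obtain ⟨s, rfl⟩ := BlocksCore.CyclicCount.exists_setup hz (hzP' ▸ P.not_dvd_index)
  obtain ⟨M, hM⟩ := Blocks88.exists_isPModular hq
  have hidx : ¬ q ∣ (Subgroup.zpowers s.z).index := hzP' ▸ P.not_dvd_index
  have hB : ∀ χ ∈ Cfsg.principalBlock M G, Cfsg.charDegree (χ : G → ℂ) < q := by
    refine fun χ hχ => lt_of_le_of_ne (hle χ) fun hχq => ?_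
    obtain ⟨o, ho⟩ := BlocksCore.CyclicBlock.exists_vecO_ne_zero s hM hidx hχ
    apply ho
    apply Int.cast_injective (α := ℂ)
    rw [SmallGroups.SelfCent.Setup.vecO, s.vec_spec, SmallGroups.SelfCent.Setup.vecC, Int.cast_zero,
      Finset.sum_eq_zero, mul_zero]
    intro k _
    by_cases hk : k = 0
    · simp [hk]
    · rw [BlocksCore.CyclicBlock.phi_of_mem s hM hk hχ, hvan χ hχq _ ?_ ?_, zero_mul]
      · exact (P : Subgroup G).pow_mem hzP _
      · exact fun h0 => hk ((s.zp_eq_one_iff k).mp h0)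
  obtain ⟨⟨χ, -, hχ⟩, ⟨χ', -, hχ', g, hg⟩, -, -⟩ :=
    principal_degrees s hM hidx hq2 hlin hfaith hB
  exfalso
  obtain ⟨j, hj⟩ := hq.odd_of_ne_two hq2
  have h2 : 2 ≤ j * 2 := by have := hq.two_le; omega
  have h3 : Cfsg.charDegree (χ : G → ℂ) ≠ 1 := by omega
  have h4 : Cfsg.charDegree (χ : G → ℂ) = 2 :=
    ((Nat.dvd_prime (h χ h3)).mp ⟨j, by omega⟩).resolve_left (by norm_num) |>.symm
  exact hg (hlin χ' (by omega) g)

end Cfsg.Agent.CharDeep.Small
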