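import Cfsg.Agent.CharDeep.Small.PrimeDegrees
import Cfsg.Agent.Lib.CharCore.ProjectiveChar
import Mathlib.GroupTheory.Abelianization.Defs
import Cfsg.Prelude.Def_DegreeGraph

/-!
# All nonlinear degrees prime: at most three degrees
-/

namespace Cfsg.Agent.CharDeep.Small

universe u

open scoped ComplexConjugate commutatorElement

variable {G : Type u} [Group G] [Finite G]

/-- Norm and degree of the restriction to a normal subgroup. -/
theorem exists_orbit_data [Fintype G] (K : Subgroup G) [K.Normal] [Fintype K]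
    (χ : Cfsg.IrrCharacter G) :
    ∃ (lam : Cfsg.IrrCharacter K) (e t d : ℕ), 0 < e ∧ (lam : K → ℂ) 1 = d ∧
      Cfsg.charDegree (χ : G → ℂ) = e * (t * d) ∧
      Cfsg.classInner (fun x : K => (χ : G → ℂ) x) (fun x : K => (χ : G → ℂ) x) =
        ((e * e * t : ℕ) : ℂ) ∧
      Cfsg.classInner (fun x : K => (χ : G → ℂ) x) lam ≠ 0 ∧
      ((∀ g : G, CharClifford.conjFun K g (lam : K → ℂ) = lam) → t = 1) := by
  classical
  obtain ⟨θ, e, hθ, he, hin, hres⟩ := CharClifford.clifford_restrict K χ.2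
  obtain ⟨d, -, hd⟩ := CharCore.IsIrrCharacter.exists_degree hθ
  have hone : ∀ ψ ∈ CharClifford.conjOrbit K θ, ψ 1 = (d : ℂ) := fun ψ hψ => by
    obtain ⟨z, rfl⟩ := (CharClifford.mem_conjOrbit K).mp hψ
    rw [← hd, CharClifford.conjFun_apply]
    congr 1
    exact Subtype.ext (by simp)
  refine ⟨⟨θ, hθ⟩, e, (CharClifford.conjOrbit K θ).card, d, he, hd, ?_, ?_, ?_, fun h => ?_⟩
  · have h1 := congrFun hres 1
    rw [Pi.smul_apply, Finset.sum_apply, Finset.sum_congr rfl hone, Finset.sum_const,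
      nsmul_eq_mul, smul_eq_mul, OneMemClass.coe_one, Deg.apply_one χ] at h1
    exact_mod_cast h1
  · conv_lhs => arg 1; rw [hres]
    rw [CharCore.classInner_smul_left, CharCore.classInner_sum_left,
      Finset.sum_congr rfl (g := fun _ => (e : ℂ)) fun ψ hψ => ?_, Finset.sum_const, nsmul_eq_mul]
    · push_cast; ring
    · obtain ⟨z, rfl⟩ := (CharClifford.mem_conjOrbit K).mp hψ
      rw [← CharCore.conj_classInner, CharClifford.classInner_restrict_conjFun K
        (CharCore.irr_isClassFunction χ), hin, Complex.conj_natCast]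
  · show Cfsg.classInner (fun x : K => (χ : G → ℂ) x) θ ≠ 0
    rw [hin]
    exact Nat.cast_ne_zero.mpr he.ne'
  · rw [Finset.card_eq_one]
    refine ⟨θ, Finset.eq_singleton_iff_unique_mem.mpr
      ⟨(CharClifford.mem_conjOrbit K).mpr ⟨1, CharClifford.conjFun_one K θ⟩, fun ψ hψ => ?_⟩⟩
    obtain ⟨z, rfl⟩ := (CharClifford.mem_conjOrbit K).mp hψ
    exact h z

variable {p : ℕ} [Fact p.Prime]

/-- A normal subgroup with `p`-group quotient carrying the linear constituents of `β`. -/
theorem exists_linear_moved (β : Cfsg.IrrCharacter G)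
    (hp : Cfsg.charDegree (β : G → ℂ) = p)
    (hker : derivedSeries G 2 ≤ transKer (β : G → ℂ)) :
    ∃ (K : Subgroup G) (_ : K.Normal) (k : ℕ) (f : K →* ℂˣ), K.index = p ^ k ∧
      ∃ (g : G) (x : K), f (MulAut.conjNormal g x) ≠ f x := by
  classical
  have := Fintype.ofFinite G
  have hpp : p.Prime := Fact.out
  set m := ordCompl[p] (Nat.card G) with hm
  let K₀ : Subgroup G :=
    ((powMonoidHom m : Abelianization G →* Abelianization G).ker).comap Abelianization.of
  have hK₀ : ∀ g : G, g ∈ K₀ ↔ g ^ m ∈ commutator G := fun g => by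
    rw [← Abelianization.ker_of G, MonoidHom.mem_ker, map_pow]
    rfl
  have hG'K₀ : commutator G ≤ K₀ := fun g hg => (hK₀ g).mpr (pow_mem hg m)
  set good : Subgroup G → Prop := fun K => K₀ ≤ K ∧
    ¬ Cfsg.IsIrrCharacter K (fun x : K => (β : G → ℂ) x) with hgood
  have hgood₀ : good K₀ := by
    refine ⟨le_rfl, fun hirr => ?_⟩
    set N := (commutator G).subgroupOf K₀ with hN
    haveI : N.Normal := (inferInstance : (commutator G).Normal).subgroupOf K₀
    let θ₀ : Cfsg.IrrCharacter K₀ := ⟨_, hirr⟩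
    have hres := CharCore.isCharacter_restrict (CharCore.irr_isCharacter θ₀) N
    obtain ⟨φ, hφ⟩ := CharClifford.exists_constituent hres
      (CharCore.irr_apply_one_ne_zero θ₀)
    obtain ⟨f, hf, hfdvd⟩ := CharCore.exists_degree_eq_mul N φ.2 θ₀.2 hφ
    have hf' : (p : ℂ) = ((f * Cfsg.charDegree (φ : N → ℂ) : ℕ) : ℂ) := by
      rw [Nat.cast_mul, ← Deg.apply_one φ, ← hf, ← hp, ← Deg.apply_one β]
      rfl
    have hfp : f ∣ p := ⟨_, Nat.cast_injective hf'⟩
    rcases (Nat.dvd_prime hpp).mp hfp with rfl | hfeq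
    · rw [one_mul, Nat.cast_inj] at hf'
      have hd : (fun x : N => (θ₀ : K₀ → ℂ) x) 1 = ((p : ℕ) : ℂ) := by
        show (β : G → ℂ) ((((1 : N) : K₀)) : G) = _
        rw [OneMemClass.coe_one, OneMemClass.coe_one, Deg.apply_one β, hp]
      have hre := (Deg.eq_or_degree_lt hres φ hφ (Deg.apply_one φ) hd).resolve_right (by omega)
      have h1 : (φ : N → ℂ) 1 = 1 := by
        refine irr_apply_one_eq_one φ.2 ?_
        rw [← hre, _root_.commutator_def, Subgroup.commutator_le]
        intro a _ b _ y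
        show (β : G → ℂ) ((((⁅a, b⁆ * y : N) : K₀)) : G) = (β : G → ℂ) (((y : K₀)) : G)
        push_cast
        refine hker ?_ _
        rw [derivedSeries_succ, derivedSeries_one]
        exact Subgroup.commutator_mem_commutator (Subgroup.mem_subgroupOf.mp a.2)
          (Subgroup.mem_subgroupOf.mp b.2)
      rw [Deg.apply_one φ] at h1
      have : Cfsg.charDegree (φ : N → ℂ) = 1 := by exact_mod_cast h1
      exact hpp.ne_one (hf'.trans this)
    · -- the index of `N` is prime to `p`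
      obtain ⟨u, hu⟩ := exists_prime_orderOf_dvd_card' (G := K₀ ⧸ N) p
        (by rw [← Subgroup.index_eq_card]; exact hfeq ▸ hfdvd)
      obtain ⟨u, rfl⟩ := QuotientGroup.mk'_surjective N u
      have hum : QuotientGroup.mk' N u ^ m = 1 := by
        rw [← map_pow, QuotientGroup.mk'_apply, QuotientGroup.eq_one_iff]
        exact Subgroup.mem_subgroupOf.mpr (by push_cast; exact (hK₀ u).mp u.2)
      have := orderOf_dvd_of_pow_eq_one hum
      rw [hu] at this
      exact Nat.not_dvd_ordCompl hpp Nat.card_pos.ne' this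
  obtain ⟨K, hKmem, hKmax⟩ := Finset.exists_max_image
    (Finset.univ.filter good) (fun K => Nat.card K) ⟨K₀, by simp [hgood₀]⟩
  obtain ⟨hK₀K, hKred⟩ : good K := by simpa using hKmem
  have hKn : K.Normal := ⟨fun x hx g => by
    have h1 : ⁅g, x⁆ ∈ K := hK₀K (hG'K₀ (Subgroup.commutator_mem_commutator
      (Subgroup.mem_top g) (Subgroup.mem_top x)))
    simpa [commutatorElement_def] using K.mul_mem h1 hx⟩
  have hKpg : IsPGroup p (G ⧸ K) := fun y => by
    obtain ⟨y, rfl⟩ := QuotientGroup.mk'_surjective K y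
    refine ⟨(Nat.card G).factorization p, ?_⟩
    rw [← map_pow, QuotientGroup.mk'_apply, QuotientGroup.eq_one_iff]
    refine hK₀K ((hK₀ _).mpr ?_)
    rw [← pow_mul, hm, Nat.ordProj_mul_ordCompl_eq_self, pow_card_eq_one']
    exact one_mem _
  obtain ⟨k, hk⟩ := IsPGroup.iff_card.mp hKpg
  have hk0 : k ≠ 0 := by
    intro h0
    rw [h0, pow_zero, ← Subgroup.index_eq_card, Subgroup.index_eq_one] at hk
    subst hk
    exact hKred (CharCore.isIrrCharacter_comp_surjective β.2
      (Subgroup.topEquiv (G := G)).toMonoidHom Subgroup.topEquiv.surjective)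
  obtain ⟨x, hx⟩ := exists_prime_orderOf_dvd_card' (G := G ⧸ K) p
    (hk ▸ dvd_pow_self p hk0)
  set L := (Subgroup.zpowers x).comap (QuotientGroup.mk' K) with hL
  have hKL : K ≤ L := fun y hy => by
    rw [hL, Subgroup.mem_comap, QuotientGroup.mk'_apply, (QuotientGroup.eq_one_iff y).mpr hy]
    exact one_mem _
  have hLcard : Nat.card L = p * Nat.card K := by
    have h1 : L.index = (Subgroup.zpowers x).index :=
      Subgroup.index_comap_of_surjective _ (QuotientGroup.mk'_surjective K)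
    have h2 := (Subgroup.zpowers x).index_mul_card
    rw [Nat.card_zpowers, hx, ← Subgroup.index_eq_card, ← h1] at h2
    have h3 := K.index_mul_card
    have h4 := L.index_mul_card
    rw [← h2, ← h4, mul_assoc] at h3
    exact (Nat.eq_of_mul_eq_mul_left (Nat.pos_of_ne_zero Subgroup.index_ne_zero_of_finite) h3).symm
  have hLirr : Cfsg.IsIrrCharacter L (fun y : L => (β : G → ℂ) y) := by
    by_contra hn
    have h1 := hKmax L (by simp [hgood, hK₀K.trans hKL, hn])
    rw [hLcard] at h1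
    have h2 : 0 < Nat.card K := Nat.card_pos
    nlinarith [hpp.two_le]
  obtain ⟨lam, e, t, d, he, hd, hdeg, hnorm, hne, ht⟩ := exists_orbit_data K β
  have hle : e * e * t ≤ p := by
    have h1 := CharCore.classInner_irr_self (⟨_, hLirr⟩ : Cfsg.IrrCharacter L)
    rw [Cfsg.classInner, inv_mul_eq_one₀ (Nat.cast_ne_zero.mpr Nat.card_pos.ne')] at h1
    rw [Cfsg.classInner, inv_mul_eq_iff_eq_mul₀ (Nat.cast_ne_zero.mpr Nat.card_pos.ne')] at hnorm
    have hreal : ∀ z : ℂ, z * conj z = ((Complex.normSq z : ℝ) : ℂ) := Complex.mul_conj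
    simp only [hreal] at h1 hnorm
    have h1' : (Nat.card L : ℝ) = ∑ y : L, Complex.normSq ((β : G → ℂ) y) := by
      exact_mod_cast h1
    have hnorm' : ∑ y : K, Complex.normSq ((β : G → ℂ) y) = (Nat.card K : ℝ) * (e * e * t : ℕ) := by
      exact_mod_cast hnorm
    have hsub : ∑ y : K, Complex.normSq ((β : G → ℂ) y) ≤
        ∑ y : L, Complex.normSq ((β : G → ℂ) y) := by
      refine le_trans (le_of_eq ?_) (Finset.sum_le_sum_of_subset_of_nonneg
        (Finset.subset_univ ((Finset.univ : Finset K).map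
          ⟨Subgroup.inclusion hKL, Subgroup.inclusion_injective hKL⟩))
        fun _ _ _ => Complex.normSq_nonneg _)
      rw [Finset.sum_map]
      rfl
    rw [hnorm', ← h1', hLcard, Nat.cast_mul p, mul_comm (p : ℝ)] at hsub
    exact_mod_cast le_of_mul_le_mul_left hsub (Nat.cast_pos.mpr Nat.card_pos)
  rw [hp] at hdeg
  have hd1 : d = 1 ∧ t ≠ 1 := by
    have h1 : e ∣ p := Dvd.intro _ hdeg.symm
    rcases (Nat.dvd_prime hpp).mp h1 with rfl | rfl
    · rw [one_mul] at hdeg
      refine ⟨?_, ?_⟩ <;> rcases (Nat.dvd_prime hpp).mp (Dvd.intro _ hdeg.symm : t ∣ p) with rfl | rfl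
      · -- the restriction would be irreducible
        refine absurd ?_ hKred
        rw [(Deg.eq_or_degree_lt (CharCore.isCharacter_restrict (CharCore.irr_isCharacter β) K)
          lam hne (Deg.apply_one lam) (Deg.apply_one β)).resolve_right ?_]
        · exact lam.2
        · rw [Deg.degree_of_eq hd, hp]; omega
      · exact Nat.eq_of_mul_eq_mul_left hpp.pos (by omega)
      · refine absurd ?_ hKred
        rw [(Deg.eq_or_degree_lt (CharCore.isCharacter_restrict (CharCore.irr_isCharacter β) K)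
          lam hne (Deg.apply_one lam) (Deg.apply_one β)).resolve_right ?_]
        · exact lam.2
        · rw [Deg.degree_of_eq hd, hp]; omega
      · exact hpp.ne_one
    · have ht0 : 0 < t := Nat.pos_of_ne_zero fun h => by
        rw [h] at hdeg; simp at hdeg; exact hpp.ne_zero hdeg
      nlinarith [hpp.two_le]
  obtain ⟨f, hf⟩ := CharCore.IsCharacter.exists_hom_of_degree_one (CharCore.irr_isCharacter lam)
    (by rw [hd, hd1.1, Nat.cast_one])
  refine ⟨K, hKn, k, f, by rw [Subgroup.index_eq_card, hk], ?_⟩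
  by_contra hall
  push Not at hall
  refine hd1.2 (ht fun g => funext fun y => ?_)
  rw [CharClifford.conjFun_apply, hf]
  exact congrArg Units.val ((congrArg f (Subtype.ext (MulAut.conjNormal_apply g y).symm)).trans
    (hall g y))

omit [Fact p.Prime] in
/-- The index of the kernel of `f^g / f` divides the square of every other prime degree. -/
theorem index_dvd_sq (K : Subgroup G) [K.Normal] {k : ℕ} (hk : K.index = p ^ k)
    (f : K →* ℂˣ) (g : G) (μ : K →* ℂˣ) (hμ : ∀ x, μ x = f (MulAut.conjNormal g x) * (f x)⁻¹)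
    {q : ℕ} (hq : q.Prime) (hqp : ¬ q ∣ p) (χ : Cfsg.IrrCharacter G)
    (hχ : Cfsg.charDegree (χ : G → ℂ) = q)
    (h : ∀ ψ : Cfsg.IrrCharacter G, Cfsg.charDegree (ψ : G → ℂ) ≠ 1 →
      (Cfsg.charDegree (ψ : G → ℂ)).Prime) : μ.ker.index ∣ q ^ 2 := by
  classical
  have := Fintype.ofFinite G
  have := Fintype.ofFinite K
  set θ : K → ℂ := fun x => (χ : G → ℂ) x with hθ
  have hθc : Cfsg.IsCharacter K θ := CharCore.isCharacter_restrict (CharCore.irr_isCharacter χ) K
  obtain ⟨φ, hφ⟩ := CharClifford.exists_constituent hθc (CharCore.irr_apply_one_ne_zero χ)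
  obtain ⟨n, hn, hndvd⟩ := CharCore.exists_degree_eq_mul K φ.2 χ.2 hφ
  have hθ1 : θ 1 = ((q : ℕ) : ℂ) := by
    show (χ : G → ℂ) ((1 : K) : G) = _
    rw [OneMemClass.coe_one, Deg.apply_one χ, hχ]
  rw [Deg.apply_one χ, hχ, Deg.apply_one φ, ← Nat.cast_mul, Nat.cast_inj] at hn
  have hn1 : n = 1 := by
    rcases (Nat.dvd_prime hq).mp (Dvd.intro _ hn.symm : n ∣ q) with h1 | h1
    · exact h1
    · rw [h1, hk] at hndvd
      exact absurd (hq.dvd_of_dvd_pow hndvd) hqp
  rw [hn1, one_mul] at hn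
  have hre := (Deg.eq_or_degree_lt hθc φ hφ (Deg.apply_one φ) hθ1).resolve_right (by omega)
  have hθi : Cfsg.IsIrrCharacter K θ := hre ▸ φ.2
  let η : Cfsg.IrrCharacter K :=
    ⟨fun x => (f x : ℂ) * θ x, CharCore.isIrrCharacter_hom_mul f hθi⟩
  obtain ⟨ψ, hψ⟩ := CharCore.exists_over K η
  obtain ⟨n', hn', -⟩ := CharCore.exists_degree_eq_mul K η.2 ψ.2 hψ
  have hη1 : (η : K → ℂ) 1 = ((q : ℕ) : ℂ) := by
    show (f 1 : ℂ) * θ 1 = _
    rw [map_one, Units.val_one, one_mul, hθ1]
  rw [Deg.apply_one ψ, hη1, ← Nat.cast_mul, Nat.cast_inj] at hn'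
  have hψd : Cfsg.charDegree (ψ : G → ℂ) = q := by
    have h1 : q ∣ Cfsg.charDegree (ψ : G → ℂ) := Dvd.intro_left _ hn'.symm
    have h2 : Cfsg.charDegree (ψ : G → ℂ) ≠ 1 := fun h2 => hq.ne_one (Nat.dvd_one.mp (h2 ▸ h1))
    exact (((Nat.dvd_prime (h ψ h2)).mp h1).resolve_left hq.ne_one).symm
  have hre' := (Deg.eq_or_degree_lt (CharCore.isCharacter_restrict (CharCore.irr_isCharacter ψ) K)
    η hψ (Deg.apply_one η) (Deg.apply_one ψ)).resolve_right (by
      rw [Deg.degree_of_eq hη1, hψd]; omega)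
  have hvan : ∀ x : K, x ∉ μ.ker → θ x = 0 := by
    intro x hx
    have h1 := congrFun hre' x
    have h2 := congrFun hre' (MulAut.conjNormal g x)
    rw [show ((MulAut.conjNormal g x : K) : G) = g * x * g⁻¹ from MulAut.conjNormal_apply g x,
      CharCore.irr_isClassFunction ψ (x : G) g] at h2
    have h3 : θ (MulAut.conjNormal g x) = θ x := by
      show (χ : G → ℂ) _ = (χ : G → ℂ) _
      rw [MulAut.conjNormal_apply]
      exact CharCore.irr_isClassFunction χ (x : G) g
    have h4 : ((f (MulAut.conjNormal g x) : ℂ) - (f x : ℂ)) * θ x = 0 := by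
      rw [sub_mul]
      nth_rewrite 1 [← h3]
      exact sub_eq_zero.mpr (h2.symm.trans h1)
    refine (mul_eq_zero.mp h4).resolve_left fun h5 => hx ?_
    rw [MonoidHom.mem_ker, hμ, mul_inv_eq_one]
    exact Units.ext (sub_eq_zero.mp h5)
  obtain ⟨lam, e, t, d, -, -, hdeg, hnorm, -, -⟩ :=
    exists_orbit_data μ.ker (⟨θ, hθi⟩ : Cfsg.IrrCharacter K)
  have hsum : (μ.ker.index : ℂ) = ((e * e * t : ℕ) : ℂ) := by
    rw [← hnorm, Cfsg.classInner]
    have h1 := CharCore.classInner_irr_self (⟨θ, hθi⟩ : Cfsg.IrrCharacter K)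
    rw [Cfsg.classInner, inv_mul_eq_one₀ (Nat.cast_ne_zero.mpr Nat.card_pos.ne'),
      ← Subgroup.index_mul_card μ.ker, Nat.cast_mul] at h1
    rw [eq_inv_mul_iff_mul_eq₀ (Nat.cast_ne_zero.mpr Nat.card_pos.ne'), mul_comm, h1]
    symm
    refine Finset.sum_bij_ne_zero (fun y _ _ => (y : K)) (fun _ _ _ => Finset.mem_univ _)
      (fun a _ _ b _ _ h => Subtype.ext h) (fun b _ hb => ?_) fun _ _ _ => rfl
    by_cases hbm : b ∈ μ.ker
    · exact ⟨⟨b, hbm⟩, Finset.mem_univ _, hb, rfl⟩
    · exact absurd (by show θ b * conj (θ b) = 0; rw [hvan b hbm, zero_mul]) hb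
  rw [Nat.cast_injective hsum]
  have hq' : q = e * (t * d) := by
    rw [← hdeg]
    exact (Deg.degree_of_eq hθ1).symm
  exact ⟨t * (d * d), by rw [hq']; ring⟩

/-- At most three degrees. -/
theorem card_degrees_le (h : ∀ χ : Cfsg.IrrCharacter G, Cfsg.charDegree (χ : G → ℂ) ≠ 1 →
    (Cfsg.charDegree (χ : G → ℂ)).Prime) : Nat.card ↥(Cfsg.charDegrees G) ≤ 3 := by
  classical
  suffices hex : ∃ a b : ℕ, Cfsg.charDegrees G ⊆ {1, a, b} by
    obtain ⟨a, b, hab⟩ := hex
    refine (Nat.card_mono ((Set.toFinite _)) hab).trans ?_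
    rw [Nat.card_coe_set_eq]
    refine (Set.ncard_insert_le _ _).trans (Nat.succ_le_succ ?_)
    refine (Set.ncard_insert_le _ _).trans (Nat.succ_le_succ ?_)
    simp
  have hsolv : Group.IsSolvable G := isSolvable_aux _ G rfl h
  haveI := derivedSeries_normal G 2
  by_cases hβ : ∀ β : Cfsg.IrrCharacter (G ⧸ derivedSeries G 2),
      Cfsg.charDegree (β : G ⧸ derivedSeries G 2 → ℂ) = 1
  · -- then `G` is abelian
    have hle : commutator G ≤ derivedSeries G 2 := by
      rw [_root_.commutator_def, Subgroup.commutator_le]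
      intro a _ b _
      rw [← QuotientGroup.eq_one_iff, ← QuotientGroup.mk'_apply, map_commutatorElement,
        commutatorElement_eq_one_iff_mul_comm]
      exact Deg.commute_of_degree_one hβ _ _
    have heq : derivedSeries G 2 = derivedSeries G 1 :=
      le_antisymm (derivedSeries_antitone G (by norm_num)) (derivedSeries_one G ▸ hle)
    obtain ⟨n, hn⟩ := (Group.isSolvable_def G).mp hsolv
    have hstab : ∀ j, derivedSeries G (j + 1) = derivedSeries G 1 := by
      intro j
      induction j with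
      | zero => rfl
      | succ j ih =>
        rw [derivedSeries_succ, ih, ← derivedSeries_succ]
        exact heq
    have h1 : commutator G = ⊥ := by
      rw [← derivedSeries_one, ← hstab n, eq_bot_iff, ← hn]
      exact derivedSeries_antitone G (Nat.le_succ n)
    refine ⟨1, 1, ?_⟩
    rintro d ⟨χ, rfl⟩
    left
    have h2 : (χ : G → ℂ) 1 = 1 := irr_apply_one_eq_one χ.2 (h1 ▸ bot_le)
    exact Deg.degree_of_eq (n := 1) (by rw [h2, Nat.cast_one])
  push Not at hβ
  obtain ⟨β₀, hβ₀⟩ := hβ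
  obtain ⟨β, hβd, hβv⟩ := Deg.exists_inflate (derivedSeries G 2) β₀
  rw [← hβd] at hβ₀
  have hker : derivedSeries G 2 ≤ transKer (β : G → ℂ) := fun c hc y => by
    rw [hβv, hβv, map_mul, QuotientGroup.mk'_apply, (QuotientGroup.eq_one_iff c).mpr hc, one_mul]
  set p := Cfsg.charDegree (β : G → ℂ) with hp
  haveI : Fact p.Prime := ⟨h β hβ₀⟩
  obtain ⟨K, hKn, k, f, hk, g, x, hgx⟩ := exists_linear_moved β hp.symm hker
  let μ : K →* ℂˣ := MonoidHom.mk' (fun y => f (MulAut.conjNormal g y) * (f y)⁻¹) fun a b => by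
    rw [map_mul, map_mul, map_mul, mul_inv]
    exact mul_mul_mul_comm _ _ _ _
  have hm : μ.ker.index ≠ 1 := by
    intro h1
    rw [Subgroup.index_eq_one] at h1
    exact hgx (mul_inv_eq_one.mp (μ.mem_ker.mp (h1 ▸ Subgroup.mem_top x)))
  by_cases hq : ∀ d ∈ Cfsg.charDegrees G, d = 1 ∨ d = p
  · exact ⟨p, p, fun d hd => by rcases hq d hd with h | h <;> simp [h]⟩
  push Not at hq
  obtain ⟨q, ⟨χ, hχ⟩, hq1, hqp⟩ := hq
  refine ⟨p, q, ?_⟩
  rintro r ⟨χ', hχ'⟩
  by_contra hr
  simp only [Set.mem_insert_iff, Set.mem_singleton_iff, not_or] at hr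
  obtain ⟨hr1, hrp, hrq⟩ := hr
  have hqP : q.Prime := hχ ▸ h χ (hχ ▸ hq1)
  have hrP : r.Prime := hχ' ▸ h χ' (hχ' ▸ hr1)
  have h1 := index_dvd_sq K hk f g μ (fun _ => rfl) hqP
    (fun hd => hqp ((Nat.prime_dvd_prime_iff_eq hqP Fact.out).mp hd)) χ hχ h
  have h2 := index_dvd_sq K hk f g μ (fun _ => rfl) hrP
    (fun hd => hrp ((Nat.prime_dvd_prime_iff_eq hrP Fact.out).mp hd)) χ' hχ' h
  exact hm (Nat.eq_one_of_dvd_coprimes
    (((Nat.coprime_primes hqP hrP).mpr (Ne.symm hrq)).pow 2 2) h1 h2)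

end Cfsg.Agent.CharDeep.Small
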